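import Cfsg.Agent.Lib.Co1Out.Local
import Cfsg.Agent.Lib.Co1Out.ChainData
import Cfsg.Agent.Lib.Co2Out.Chains

/-!
Relations of the translation and the element of order three, and their failure for other exponents.
-/

set_option autoImplicit false
set_option maxRecDepth 20000
set_option Elab.async false

namespace Cfsg.Agent.Co1Out.Chains

open Cfsg Cfsg.Agent.Golay.Basic Cfsg.Agent.Golay.M24 Cfsg.Agent.Golay.Perm Cfsg.Agent.LeechAut.Gens
  Cfsg.Agent.LeechAut.Basic Cfsg.Agent.LeechAut.Cross Cfsg.Agent.LeechAut.Conway23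
  Cfsg.Agent.Co1Out.Elements Cfsg.Agent.Co1Out.Local
open Cfsg.Agent.Co2Out.Elements (frameL lst_frame gA)
open Cfsg.Agent.Co2Out.Chains (rot unp lst_rot)

/-- The product of the segments `a ^ r * z`. -/
def stepEl (rs : List ℕ) : Co0 := (rs.map fun r => g23 ^ r * zEl).prod

theorem stepEl_append (u v : List ℕ) : stepEl (u ++ v) = stepEl u * stepEl v := by
  simp [stepEl, List.prod_append]

theorem stepEl_replicate (rs : List ℕ) : ∀ k, stepEl (List.replicate k rs).flatten = stepEl rs ^ k
  | 0 => by simp [stepEl]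
  | k + 1 => by
    rw [List.replicate_succ, List.flatten_cons, stepEl_append, stepEl_replicate rs k, pow_succ']

theorem lst_step (r : ℕ) (v : leechLattice) :
    lst (((g23 ^ r * zEl) • v : leechLattice) : Cfsg.Agent.Leech.Index.Vec) =
      rot r (zL (lst (v : Cfsg.Agent.Leech.Index.Vec))) := by
  rw [mul_smul, ← lst_zEl, ← lst_rot]
  rfl

/-- Checking a chain of images. -/
def chainB : List ℕ → List ℤ → List (List ℤ) → Bool
  | [], _, [] => true
  | r :: rs, x, y :: ys => (rot r (zL x) == y) && chainB rs y ys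
  | _, _, _ => false

theorem chain_spec : ∀ (rs : List ℕ) (ys : List (List ℤ)) (v : leechLattice),
    chainB rs (lst (v : Cfsg.Agent.Leech.Index.Vec)) ys = true →
    lst ((stepEl rs.reverse) • v : leechLattice).1 =
      ys.getLastD (lst (v : Cfsg.Agent.Leech.Index.Vec))
  | [], [], v, _ => by simp [stepEl]
  | [], _ :: _, v, h => by simp [chainB] at h
  | _ :: _, [], v, h => by simp [chainB] at h
  | r :: rs, y :: ys, v, h => by
    simp only [chainB, Bool.and_eq_true, beq_iff_eq] at h
    obtain ⟨h1, h2⟩ := h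
    rw [← lst_step] at h1
    rw [← h1] at h2
    have h3 := chain_spec rs ys _ h2
    rw [List.reverse_cons, stepEl_append, mul_smul,
      show stepEl [r] = g23 ^ r * zEl by simp [stepEl], List.getLastD_cons, ← h1]
    exact h3

/-- Twelve indices meeting every nonempty code word. -/
def infoIdx : List ℕ := [23, 0, 1, 2, 3, 4, 5, 6, 7, 8, 9, 10]

theorem info_code : ∀ m ∈ codeList, (infoIdx.all fun i => !m.testBit i) = true → m = 0 := by decide +kernel

theorem base_info : ∀ p ∈ basePre 7, ix p ∈ infoIdx := by decide +kernel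

theorem none_info : ix (none : GolayPt) ∈ infoIdx := by decide

/-- An element fixing the frame on the twelve indices is trivial. -/
theorem eq_one_of_info {g : Co0} (h : ∀ p, ix p ∈ infoIdx → g • frame p = frame p) : g = 1 := by
  obtain ⟨⟨π, T, hT⟩, rfl⟩ := exists_mono g (fixesCross_of_fix (h none none_info))
  have hfix : ∀ p, ix p ∈ infoIdx → (π : Equiv.Perm GolayPt) p = p ∧ p ∉ T := by
    intro p hp
    have e := congrArg (fun z : leechLattice => (z : Cfsg.Agent.Leech.Index.Vec) ((π : Equiv.Perm GolayPt) p))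
      (h p hp)
    simp only [mono_frame, frame_coe, Pi.single_eq_same] at e
    by_cases hpp : (π : Equiv.Perm GolayPt) p = p
    · rw [hpp, Pi.single_eq_same] at e
      refine ⟨hpp, fun hm => ?_⟩
      rw [if_pos hm] at e
      norm_num at e
    · rw [Pi.single_eq_of_ne hpp] at e
      split_ifs at e <;> norm_num at e
  have hmem : (π : Equiv.Perm GolayPt) ∈ fixers Cfsg.M24 (basePre 7) :=
    ⟨π.2, fun x hx => (hfix x (base_info x hx)).1⟩
  rw [(fixers Cfsg.M24 (basePre 7)).eq_bot_of_card_eq (card_fixers_seven le_rfl), Subgroup.mem_bot] at hmem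
  have hm0 : mask T = 0 := by
    refine info_code _ (mem_codeList (mem_supports_iff.1 hT)) (List.all_eq_true.2 fun i hi => ?_)
    have hi24 : i < 24 := by revert i; decide
    rw [← ix_pt hi24, testBit_mask]
    simp [(hfix (pt i) (by rw [ix_pt hi24]; exact hi)).2]
  have hT0 : T = ∅ := by
    rw [← maskSet_mask T, hm0]
    ext p; simp
  refine eq_one_of_frames' fun p => Subtype.ext ?_
  rw [mono_frame]
  simp [hmem, hT0, frame_coe]
where
  eq_one_of_frames' {g : Co0} (h : ∀ p, g • frame p = frame p) : g = 1 :=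
    Cfsg.Agent.Co2Out.Elements.eq_one_of_frames h

/-- A chain that returns to the opposite vector. -/
def returns (k : ℕ) (rs : List ℕ) (i : ℕ) (ys : List ℕ) : Bool :=
  chainB (List.replicate k rs.reverse).flatten (frameL i) (ys.map unp) &&
    ((ys.map unp).getLastD (frameL i) == (frameL i).map Neg.neg)

theorem pow_eq_one {k : ℕ} {rs : List ℕ} (h : ∀ i ∈ infoIdx, ∃ ys, returns k rs i ys = true) :
    ((stepEl rs : Q)) ^ k = 1 := by
  suffices e : negOne * stepEl rs ^ k = 1 by
    rw [← QuotientGroup.mk_pow, ← mk_neg, e, QuotientGroup.mk_one]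
  refine eq_one_of_info fun p hp => Subtype.ext (lst_injective ?_)
  obtain ⟨ys, h'⟩ := h _ hp
  simp only [returns, Bool.and_eq_true, beq_iff_eq] at h'
  obtain ⟨h1, h3⟩ := h'
  rw [← lst_frame] at h1 h3
  have h4 := chain_spec _ _ (frame p) h1
  rw [List.reverse_flatten, List.map_replicate, List.reverse_replicate, List.reverse_reverse,
    stepEl_replicate, h3] at h4
  rw [mul_smul, negOne_smul]
  have e : lst ((-(stepEl rs ^ k • frame p) : leechLattice) : Cfsg.Agent.Leech.Index.Vec) =
      (lst ((stepEl rs ^ k • frame p : leechLattice) : Cfsg.Agent.Leech.Index.Vec)).map Neg.neg := by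
    rw [lst, lst, List.map_map]
    rfl
  rw [e, h4, List.map_map]
  simp [Function.comp_def]

/-- A chain that does not return. -/
def moves (k : ℕ) (rs : List ℕ) (ys : List ℕ) : Bool :=
  chainB (List.replicate k rs.reverse).flatten (frameL 23) (ys.map unp) &&
    !((ys.map unp).getLastD (frameL 23) == (frameL 23).map Neg.neg) &&
    !((ys.map unp).getLastD (frameL 23) == frameL 23)

theorem pow_ne_one {k : ℕ} {rs ys : List ℕ} (h : moves k rs ys = true) : ((stepEl rs : Q)) ^ k ≠ 1 := by
  intro e
  simp only [moves, Bool.and_eq_true, Bool.not_eq_true', beq_eq_false_iff_ne] at h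
  obtain ⟨⟨h1, h2⟩, h3⟩ := h
  have hl : lst ((frame none : leechLattice) : Cfsg.Agent.Leech.Index.Vec) = frameL 23 := lst_frame none
  rw [← hl] at h1 h2 h3
  have h4 := chain_spec _ _ (frame none) h1
  rw [List.reverse_flatten, List.map_replicate, List.reverse_replicate, List.reverse_reverse,
    stepEl_replicate] at h4
  rw [← QuotientGroup.mk_pow, ← QuotientGroup.mk_one, mk_eq, mul_one] at e
  rcases e with e | e <;> rw [e] at h4
  · rw [one_smul] at h4
    exact h3 h4.symm
  · rw [negOne_smul] at h4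
    refine h2 (h4.symm.trans ?_)
    rw [lst, lst, List.map_map]
    rfl

theorem retA_23 : returns 15 [5] 23 (ChainData.orbA.getD 0 []) = true := by decide +kernel

theorem retA_0 : returns 15 [5] 0 (ChainData.orbA.getD 1 []) = true := by decide +kernel

theorem retA_1 : returns 15 [5] 1 (ChainData.orbA.getD 2 []) = true := by decide +kernel

theorem retA_2 : returns 15 [5] 2 (ChainData.orbA.getD 3 []) = true := by decide +kernel

theorem retA_3 : returns 15 [5] 3 (ChainData.orbA.getD 4 []) = true := by decide +kernel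

theorem retA_4 : returns 15 [5] 4 (ChainData.orbA.getD 5 []) = true := by decide +kernel

theorem retA_5 : returns 15 [5] 5 (ChainData.orbA.getD 6 []) = true := by decide +kernel

theorem retA_6 : returns 15 [5] 6 (ChainData.orbA.getD 7 []) = true := by decide +kernel

theorem retA_7 : returns 15 [5] 7 (ChainData.orbA.getD 8 []) = true := by decide +kernel

theorem retA_8 : returns 15 [5] 8 (ChainData.orbA.getD 9 []) = true := by decide +kernel

theorem retA_9 : returns 15 [5] 9 (ChainData.orbA.getD 10 []) = true := by decide +kernel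

theorem retA_10 : returns 15 [5] 10 (ChainData.orbA.getD 11 []) = true := by decide +kernel

theorem retA : ∀ i ∈ infoIdx, ∃ ys, returns 15 [5] i ys = true := by
  intro i hi
  simp only [infoIdx, List.mem_cons, List.not_mem_nil, or_false] at hi
  rcases hi with rfl | rfl | rfl | rfl | rfl | rfl | rfl | rfl | rfl | rfl | rfl | rfl
  · exact ⟨_, retA_23⟩
  · exact ⟨_, retA_0⟩
  · exact ⟨_, retA_1⟩
  · exact ⟨_, retA_2⟩
  · exact ⟨_, retA_3⟩
  · exact ⟨_, retA_4⟩
  · exact ⟨_, retA_5⟩
  · exact ⟨_, retA_6⟩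
  · exact ⟨_, retA_7⟩
  · exact ⟨_, retA_8⟩
  · exact ⟨_, retA_9⟩
  · exact ⟨_, retA_10⟩

theorem retA_one : ((stepEl [5] : Q)) ^ 15 = 1 := pow_eq_one retA

theorem retB_23 : returns 21 [1, 2, 4] 23 (ChainData.orbB.getD 0 []) = true := by decide +kernel

theorem retB_0 : returns 21 [1, 2, 4] 0 (ChainData.orbB.getD 1 []) = true := by decide +kernel

theorem retB_1 : returns 21 [1, 2, 4] 1 (ChainData.orbB.getD 2 []) = true := by decide +kernel

theorem retB_2 : returns 21 [1, 2, 4] 2 (ChainData.orbB.getD 3 []) = true := by decide +kernel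

theorem retB_3 : returns 21 [1, 2, 4] 3 (ChainData.orbB.getD 4 []) = true := by decide +kernel

theorem retB_4 : returns 21 [1, 2, 4] 4 (ChainData.orbB.getD 5 []) = true := by decide +kernel

theorem retB_5 : returns 21 [1, 2, 4] 5 (ChainData.orbB.getD 6 []) = true := by decide +kernel

theorem retB_6 : returns 21 [1, 2, 4] 6 (ChainData.orbB.getD 7 []) = true := by decide +kernel

theorem retB_7 : returns 21 [1, 2, 4] 7 (ChainData.orbB.getD 8 []) = true := by decide +kernel

theorem retB_8 : returns 21 [1, 2, 4] 8 (ChainData.orbB.getD 9 []) = true := by decide +kernel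

theorem retB_9 : returns 21 [1, 2, 4] 9 (ChainData.orbB.getD 10 []) = true := by decide +kernel

theorem retB_10 : returns 21 [1, 2, 4] 10 (ChainData.orbB.getD 11 []) = true := by decide +kernel

theorem retB : ∀ i ∈ infoIdx, ∃ ys, returns 21 [1, 2, 4] i ys = true := by
  intro i hi
  simp only [infoIdx, List.mem_cons, List.not_mem_nil, or_false] at hi
  rcases hi with rfl | rfl | rfl | rfl | rfl | rfl | rfl | rfl | rfl | rfl | rfl | rfl
  · exact ⟨_, retB_23⟩
  · exact ⟨_, retB_0⟩
  · exact ⟨_, retB_1⟩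
  · exact ⟨_, retB_2⟩
  · exact ⟨_, retB_3⟩
  · exact ⟨_, retB_4⟩
  · exact ⟨_, retB_5⟩
  · exact ⟨_, retB_6⟩
  · exact ⟨_, retB_7⟩
  · exact ⟨_, retB_8⟩
  · exact ⟨_, retB_9⟩
  · exact ⟨_, retB_10⟩

theorem retB_one : ((stepEl [1, 2, 4] : Q)) ^ 21 = 1 := pow_eq_one retB

theorem movA : ((stepEl [5, 0] : Q)) ^ 15 ≠ 1 :=
  pow_ne_one (ys := ChainData.movA) (by decide +kernel)

theorem movB : ((stepEl [110] : Q)) ^ 15 ≠ 1 :=
  pow_ne_one (ys := ChainData.movB) (by decide +kernel)

theorem movC : ((stepEl [22, 0, 44, 0, 88, 0] : Q)) ^ 21 ≠ 1 :=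
  pow_ne_one (ys := ChainData.movC) (by decide +kernel)

end Cfsg.Agent.Co1Out.Chains
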