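import Mathlib.Init

/-!
The matrix of an element of order 3 of the lattice centralising an element of order 11.
-/

set_option autoImplicit false

namespace Cfsg.Agent.Co1Out.Data

/-- Eight times the matrix: the images of the coordinate frame. -/
def rows : List (List Int) :=
  [[-4, 0, 0, 0, 0, -2, 0, -2, 0, 0, -2, -2, 0, 0, -2, -2, 0, -2, 0, -2, -2, -2, -2, 2],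
   [0, -4, 0, 0, 0, -2, 0, 2, 0, 0, 2, 2, 0, 0, -2, -2, 0, 2, 0, -2, -2, -2, 2, -2],
   [0, 0, -4, 0, 0, -2, 0, -2, 0, 0, -2, 2, 0, 0, 2, -2, 0, -2, 0, -2, 2, 2, 2, -2],
   [0, 0, 0, -4, 0, 2, 0, 2, 0, 0, 2, -2, 0, 0, -2, -2, 0, -2, 0, -2, 2, 2, -2, -2],
   [0, 0, 0, 0, -4, 2, 0, -2, 0, 0, -2, -2, 0, 0, -2, -2, 0, 2, 0, 2, -2, 2, 2, -2],
   [2, 2, 2, -2, -2, -4, 2, 0, 2, 2, 0, 0, -2, -2, 0, 0, 2, 0, -2, 0, 0, 0, 0, 0],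
   [0, 0, 0, 0, 0, -2, -4, -2, 0, 0, 2, -2, 0, 0, 2, -2, 0, 2, 0, 2, 2, -2, -2, -2],
   [2, -2, 2, -2, 2, 0, 2, -4, 2, -2, 0, 0, 2, 2, 0, 0, -2, 0, -2, 0, 0, 0, 0, 0],
   [0, 0, 0, 0, 0, -2, 0, -2, -4, 0, 2, 2, 0, 0, -2, 2, 0, -2, 0, 2, -2, 2, -2, -2],
   [0, 0, 0, 0, 0, -2, 0, 2, 0, -4, -2, -2, 0, 0, 2, 2, 0, 2, 0, -2, -2, 2, -2, -2],
   [2, -2, 2, -2, 2, 0, -2, 0, -2, 2, -4, 0, 2, -2, 0, 0, 2, 0, 2, 0, 0, 0, 0, 0],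
   [2, -2, -2, 2, 2, 0, 2, 0, -2, 2, 0, -4, -2, 2, 0, 0, 2, 0, -2, 0, 0, 0, 0, 0],
   [0, 0, 0, 0, 0, 2, 0, -2, 0, 0, -2, 2, -4, 0, -2, 2, 0, 2, 0, -2, 2, -2, -2, -2],
   [0, 0, 0, 0, 0, 2, 0, -2, 0, 0, 2, -2, 0, -4, 2, 2, 0, -2, 0, -2, -2, -2, 2, -2],
   [2, 2, -2, 2, 2, 0, -2, 0, 2, -2, 0, 0, 2, -2, -4, 0, 2, 0, -2, 0, 0, 0, 0, 0],
   [2, 2, 2, 2, 2, 0, 2, 0, -2, -2, 0, 0, -2, -2, 0, -4, -2, 0, 2, 0, 0, 0, 0, 0],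
   [0, 0, 0, 0, 0, -2, 0, 2, 0, 0, -2, -2, 0, 0, -2, 2, -4, -2, 0, 2, 2, -2, 2, -2],
   [2, -2, 2, 2, -2, 0, -2, 0, 2, -2, 0, 0, -2, 2, 0, 0, 2, -4, 2, 0, 0, 0, 0, 0],
   [0, 0, 0, 0, 0, 2, 0, 2, 0, 0, -2, 2, 0, 0, 2, -2, 0, -2, -4, 2, -2, -2, -2, -2],
   [2, 2, 2, 2, -2, 0, -2, 0, -2, 2, 0, 0, 2, 2, 0, 0, -2, 0, -2, -4, 0, 0, 0, 0],
   [2, 2, -2, -2, 2, 0, -2, 0, 2, 2, 0, 0, -2, 2, 0, 0, -2, 0, 2, 0, -4, 0, 0, 0],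
   [2, 2, -2, -2, -2, 0, 2, 0, -2, -2, 0, 0, 2, 2, 0, 0, 2, 0, 2, 0, 0, -4, 0, 0],
   [2, -2, -2, 2, -2, 0, 2, 0, 2, 2, 0, 0, 2, -2, 0, 0, -2, 0, 2, 0, 0, 0, -4, 0],
   [-2, 2, 2, 2, 2, 0, 2, 0, 2, 2, 0, 0, 2, 2, 0, 0, 2, 0, 2, 0, 0, 0, 0, -4]]

/-- The transposed matrix. -/
def cols : List (List Int) :=
  [[-4, 0, 0, 0, 0, 2, 0, 2, 0, 0, 2, 2, 0, 0, 2, 2, 0, 2, 0, 2, 2, 2, 2, -2],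
   [0, -4, 0, 0, 0, 2, 0, -2, 0, 0, -2, -2, 0, 0, 2, 2, 0, -2, 0, 2, 2, 2, -2, 2],
   [0, 0, -4, 0, 0, 2, 0, 2, 0, 0, 2, -2, 0, 0, -2, 2, 0, 2, 0, 2, -2, -2, -2, 2],
   [0, 0, 0, -4, 0, -2, 0, -2, 0, 0, -2, 2, 0, 0, 2, 2, 0, 2, 0, 2, -2, -2, 2, 2],
   [0, 0, 0, 0, -4, -2, 0, 2, 0, 0, 2, 2, 0, 0, 2, 2, 0, -2, 0, -2, 2, -2, -2, 2],
   [-2, -2, -2, 2, 2, -4, -2, 0, -2, -2, 0, 0, 2, 2, 0, 0, -2, 0, 2, 0, 0, 0, 0, 0],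
   [0, 0, 0, 0, 0, 2, -4, 2, 0, 0, -2, 2, 0, 0, -2, 2, 0, -2, 0, -2, -2, 2, 2, 2],
   [-2, 2, -2, 2, -2, 0, -2, -4, -2, 2, 0, 0, -2, -2, 0, 0, 2, 0, 2, 0, 0, 0, 0, 0],
   [0, 0, 0, 0, 0, 2, 0, 2, -4, 0, -2, -2, 0, 0, 2, -2, 0, 2, 0, -2, 2, -2, 2, 2],
   [0, 0, 0, 0, 0, 2, 0, -2, 0, -4, 2, 2, 0, 0, -2, -2, 0, -2, 0, 2, 2, -2, 2, 2],
   [-2, 2, -2, 2, -2, 0, 2, 0, 2, -2, -4, 0, -2, 2, 0, 0, -2, 0, -2, 0, 0, 0, 0, 0],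
   [-2, 2, 2, -2, -2, 0, -2, 0, 2, -2, 0, -4, 2, -2, 0, 0, -2, 0, 2, 0, 0, 0, 0, 0],
   [0, 0, 0, 0, 0, -2, 0, 2, 0, 0, 2, -2, -4, 0, 2, -2, 0, -2, 0, 2, -2, 2, 2, 2],
   [0, 0, 0, 0, 0, -2, 0, 2, 0, 0, -2, 2, 0, -4, -2, -2, 0, 2, 0, 2, 2, 2, -2, 2],
   [-2, -2, 2, -2, -2, 0, 2, 0, -2, 2, 0, 0, -2, 2, -4, 0, -2, 0, 2, 0, 0, 0, 0, 0],
   [-2, -2, -2, -2, -2, 0, -2, 0, 2, 2, 0, 0, 2, 2, 0, -4, 2, 0, -2, 0, 0, 0, 0, 0],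
   [0, 0, 0, 0, 0, 2, 0, -2, 0, 0, 2, 2, 0, 0, 2, -2, -4, 2, 0, -2, -2, 2, -2, 2],
   [-2, 2, -2, -2, 2, 0, 2, 0, -2, 2, 0, 0, 2, -2, 0, 0, -2, -4, -2, 0, 0, 0, 0, 0],
   [0, 0, 0, 0, 0, -2, 0, -2, 0, 0, 2, -2, 0, 0, -2, 2, 0, 2, -4, -2, 2, 2, 2, 2],
   [-2, -2, -2, -2, 2, 0, 2, 0, 2, -2, 0, 0, -2, -2, 0, 0, 2, 0, 2, -4, 0, 0, 0, 0],
   [-2, -2, 2, 2, -2, 0, 2, 0, -2, -2, 0, 0, 2, -2, 0, 0, 2, 0, -2, 0, -4, 0, 0, 0],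
   [-2, -2, 2, 2, 2, 0, -2, 0, 2, 2, 0, 0, -2, -2, 0, 0, -2, 0, -2, 0, 0, -4, 0, 0],
   [-2, 2, 2, -2, 2, 0, -2, 0, -2, -2, 0, 0, -2, 2, 0, 0, 2, 0, -2, 0, 0, 0, -4, 0],
   [2, -2, -2, -2, -2, 0, -2, 0, -2, -2, 0, 0, -2, -2, 0, 0, -2, 0, -2, 0, 0, 0, 0, -4]]

end Cfsg.Agent.Co1Out.Data
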