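import Cfsg.Agent.Lib.Co2Out.Elements
import Cfsg.Agent.Lib.Co1Out.Data

/-!
An element of order 3 of the lattice commuting with the doubling, and the action of words.
-/

set_option autoImplicit false
set_option maxRecDepth 20000

namespace Cfsg.Agent.Co1Out.Elements

open Cfsg Cfsg.Agent.Golay.Basic Cfsg.Agent.Golay.M24 Cfsg.Agent.Leech.Basic
  Cfsg.Agent.Leech.Gen Cfsg.Agent.Leech.Index
  Cfsg.Agent.LeechAut.Gens Cfsg.Agent.LeechAut.Basic Cfsg.Agent.LeechAut.Cross Cfsg.Agent.LeechAut.Conway23
  Cfsg.Agent.LeechAut.Co1 Finset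
open Cfsg.Agent.Co2Out.Elements (permL lst_permHom dotL dotL_map posA posA' posB posB' pos_eq aM bM frameL
  lst_frame eq_one_of_frames)

/-- The entries. -/
def R (p q : GolayPt) : ℤ := (Data.rows.getD (ix p) []).getD (ix q) 0

/-- The entries of the transpose. -/
def C (p q : GolayPt) : ℤ := (Data.cols.getD (ix p) []).getD (ix q) 0

/-- Eight times the image under a matrix. -/
def nu (M : GolayPt → GolayPt → ℤ) (x : Vec) : Vec := fun q => ∑ p, x p * M p q

/-- The image. -/
def mFun (M : GolayPt → GolayPt → ℤ) (x : Vec) : Vec := fun q => nu M x q / 8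

theorem nu_add (M : GolayPt → GolayPt → ℤ) (x y : Vec) : nu M (x + y) = nu M x + nu M y := by
  funext q
  simp [nu, add_mul, sum_add_distrib]

theorem nu_zero (M : GolayPt → GolayPt → ℤ) : nu M 0 = 0 := by
  funext q
  simp [nu]

theorem nu_neg (M : GolayPt → GolayPt → ℤ) (x : Vec) : nu M (-x) = -nu M x := by
  funext q
  simp [nu, neg_mul, sum_neg_distrib]

/-- The checks on the generators of the lattice. -/
def Checked (M : GolayPt → GolayPt → ℤ) : Prop :=
  ((∀ q, nu M oddVec q % 8 = 0) ∧ inLat (mFun M oddVec) = true) ∧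
  (∀ i : GolayPt, i ≠ none → ∀ t ∈ [(1 : ℤ), -1],
    (∀ q, nu M (pairVec i t) q % 8 = 0) ∧ inLat (mFun M (pairVec i t)) = true) ∧
  ∀ b ∈ basisMasks,
    (∀ q, nu M (twoInd (maskSet b)) q % 8 = 0) ∧ inLat (mFun M (twoInd (maskSet b))) = true

theorem good {M : GolayPt → GolayPt → ℤ} (hM : Checked M) {x : Vec} (hx : x ∈ leechLattice) :
    (∀ q, (8 : ℤ) ∣ nu M x q) ∧ mFun M x ∈ leechLattice := by
  let K : AddSubgroup Vec :=
    { carrier := {x | (∀ q, (8 : ℤ) ∣ nu M x q) ∧ mFun M x ∈ leechLattice}
      zero_mem' := by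
        refine ⟨fun q => by rw [nu_zero]; exact dvd_zero _, ?_⟩
        have : mFun M 0 = 0 := by funext q; simp [mFun, nu_zero]
        rw [this]
        exact zero_mem _
      add_mem' := fun {a b} ha hb => by
        refine ⟨fun q => by rw [nu_add]; exact dvd_add (ha.1 q) (hb.1 q), ?_⟩
        have : mFun M (a + b) = mFun M a + mFun M b := by
          funext q
          simp only [mFun, nu_add, Pi.add_apply]
          exact Int.add_ediv_of_dvd_left (ha.1 q)
        rw [this]
        exact add_mem ha.2 hb.2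
      neg_mem' := fun {a} ha => by
        refine ⟨fun q => by rw [nu_neg]; exact dvd_neg.2 (ha.1 q), ?_⟩
        have : mFun M (-a) = -mFun M a := by
          funext q
          simp only [mFun, nu_neg, Pi.neg_apply]
          exact Int.neg_ediv_of_dvd (ha.1 q)
        rw [this]
        exact neg_mem ha.2 }
  have key : ∀ v : Vec, (∀ q, nu M v q % 8 = 0) → inLat (mFun M v) = true → v ∈ K :=
    fun v h h' => ⟨fun q => Int.dvd_of_emod_eq_zero (h q), mem_of_inLat h'⟩
  obtain ⟨h1, h2, h3⟩ := hM
  exact le_of_gens K (key _ h1.1 h1.2) (fun i hi t ht => key _ (h2 i hi t ht).1 (h2 i hi t ht).2)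
    (fun b hb => key _ (h3 b hb).1 (h3 b hb).2) hx

theorem eight_mFun {M : GolayPt → GolayPt → ℤ} (hM : Checked M) {x : Vec} (hx : x ∈ leechLattice)
    (q : GolayPt) : 8 * mFun M x q = nu M x q := by
  obtain ⟨k, hk⟩ := (good hM hx).1 q
  simp only [mFun, hk]
  omega

theorem mFun_add {M : GolayPt → GolayPt → ℤ} (hM : Checked M) {x y : Vec} (hx : x ∈ leechLattice) :
    mFun M (x + y) = mFun M x + mFun M y := by
  funext q
  simp only [mFun, nu_add, Pi.add_apply]
  exact Int.add_ediv_of_dvd_left ((good hM hx).1 q)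

theorem mFun_mFun {M N : GolayPt → GolayPt → ℤ} (hM : Checked M)
    (h : ∀ p p', ∑ q, M p q * N q p' = if p = p' then 64 else 0) {x : Vec} (hx : x ∈ leechLattice) :
    mFun N (mFun M x) = x := by
  funext q
  have h8 : 8 * nu N (mFun M x) q = 64 * x q := by
    have e1 : 8 * nu N (mFun M x) q = ∑ p, ∑ r, x r * (M r p * N p q) := by
      simp only [nu, mul_sum]
      refine sum_congr rfl fun p _ => ?_
      rw [← mul_assoc, eight_mFun hM hx, nu, sum_mul]
      exact sum_congr rfl fun r _ => by rw [mul_assoc]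
    rw [e1, sum_comm]
    simp only [← mul_sum, h, mul_ite, mul_zero, sum_ite_eq', mem_univ, if_true]
    ring
  show nu N (mFun M x) q / 8 = x q
  omega

theorem sqNorm_mFun {M : GolayPt → GolayPt → ℤ} (hM : Checked M)
    (h : ∀ p p', ∑ q, M p q * M p' q = if p = p' then 64 else 0) {x : Vec} (hx : x ∈ leechLattice) :
    sqNorm (mFun M x) = sqNorm x := by
  have h64 : 64 * sqNorm (mFun M x) = 64 * sqNorm x := by
    simp only [sqNorm, mul_sum]
    have e1 : ∀ q, 64 * mFun M x q ^ 2 = ∑ p, ∑ r, x p * x r * (M p q * M r q) := fun q => by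
      rw [show 64 * mFun M x q ^ 2 = (8 * mFun M x q) * (8 * mFun M x q) by ring, eight_mFun hM hx, nu,
        sum_mul_sum]
      exact sum_congr rfl fun p _ => sum_congr rfl fun r _ => by ring
    rw [sum_congr rfl fun q _ => e1 q, sum_comm]
    refine sum_congr rfl fun p _ => ?_
    rw [sum_comm]
    simp only [← mul_sum, h, mul_ite, mul_zero, sum_ite_eq, mem_univ, if_true]
    ring
  exact mul_left_cancel₀ (by norm_num) h64

theorem checked_R : Checked R := ⟨by decide +kernel, by decide +kernel, by decide +kernel⟩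

theorem checked_C : Checked C := ⟨by decide +kernel, by decide +kernel, by decide +kernel⟩

theorem sq_R : ∀ p p', ∑ q, R p q * R p' q = if p = p' then 64 else 0 := by decide +kernel

theorem inv_RC : ∀ p p', ∑ q, R p q * C q p' = if p = p' then 64 else 0 := by decide +kernel

theorem inv_CR : ∀ p p', ∑ q, C p q * R q p' = if p = p' then 64 else 0 := by decide +kernel

/-- The element of order 3. -/
def zEl : Co0 :=
  mk (fun v => ⟨mFun R v, (good checked_R v.2).2⟩) (fun v => ⟨mFun C v, (good checked_C v.2).2⟩)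
    (fun v => Subtype.ext (mFun_mFun checked_R inv_RC v.2))
    (fun v => Subtype.ext (mFun_mFun checked_C inv_CR v.2))
    (fun v _ => Subtype.ext (mFun_add checked_R v.2)) (fun v => sqNorm_mFun checked_R sq_R v.2)

theorem zEl_smul (v : leechLattice) : ((zEl • v : leechLattice) : Vec) = mFun R (v : Vec) := rfl

theorem zEl_inv_smul (v : leechLattice) : ((zEl⁻¹ • v : leechLattice) : Vec) = mFun C (v : Vec) := rfl

theorem cols_eq : Data.cols = (List.range 24).map fun q => (List.range 24).map fun p => R (pt p) (pt q) := by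
  decide +kernel

theorem rows_eq : Data.rows = (List.range 24).map fun q => (List.range 24).map fun p => C (pt p) (pt q) := by
  decide +kernel

/-- The image of a list under the element. -/
def zL (l : List ℤ) : List ℤ := Data.cols.map fun col => dotL l col / 8

/-- The image of a list under the inverse. -/
def zL' (l : List ℤ) : List ℤ := Data.rows.map fun col => dotL l col / 8

theorem lst_mFun {M : GolayPt → GolayPt → ℤ} {L : List (List ℤ)}
    (hL : L = (List.range 24).map fun q => (List.range 24).map fun p => M (pt p) (pt q)) (x : Vec) :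
    lst (mFun M x) = L.map fun col => dotL (lst x) col / 8 := by
  rw [hL, List.map_map]
  refine List.map_congr_left fun i _ => ?_
  show nu M x (pt i) / 8 = _
  simp only [Function.comp_apply, lst, dotL_map]
  congr 1
  rw [nu, ← List.sum_toFinset _ List.nodup_range, List.toFinset_range]
  exact Finset.sum_bij' (fun p _ => ix p) (fun j _ => pt j) (fun p _ => mem_range.2 (ix_lt p))
    (fun j _ => mem_univ _) (fun p _ => pt_ix p) (fun j hj => ix_pt (mem_range.1 hj))
    (fun p _ => by rw [pt_ix])

theorem lst_zEl (v : leechLattice) : lst ((zEl • v : leechLattice) : Vec) = zL (lst (v : Vec)) := by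
  rw [zEl_smul, lst_mFun cols_eq]
  rfl

theorem lst_zEl_inv (v : leechLattice) :
    lst ((zEl⁻¹ • v : leechLattice) : Vec) = zL' (lst (v : Vec)) := by
  rw [zEl_inv_smul, lst_mFun rows_eq]
  rfl

/-- The doubling. -/
def bEl : Co0 := permHom bM

/-- The letters: `0`, `1` the translation and its inverse, `2`, `3` the doubling and its inverse,
`4`, `5` the element of order 3 and its inverse. -/
def gl : ℕ → Co0
  | 0 => g23
  | 1 => g23⁻¹
  | 2 => bEl
  | 3 => bEl⁻¹
  | 5 => zEl⁻¹
  | _ => zEl

/-- The action of a letter on lists. -/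
def al : ℕ → List ℤ → List ℤ
  | 0 => permL posA
  | 1 => permL posA'
  | 2 => permL posB
  | 3 => permL posB'
  | 5 => zL'
  | _ => zL

theorem lst_gl : ∀ (k : ℕ) (v : leechLattice),
    lst ((gl k • v : leechLattice) : Vec) = al k (lst (v : Vec)) := by
  intro k v
  match k with
  | 0 => exact (lst_permHom aM v).trans (congrArg (fun L => permL L (lst (v : Vec))) pos_eq.1)
  | 1 =>
    show lst ((g23⁻¹ • v : leechLattice) : Vec) = _
    rw [show g23⁻¹ = permHom aM⁻¹ from (map_inv permHom aM).symm]
    exact (lst_permHom _ v).trans (congrArg (fun L => permL L (lst (v : Vec))) pos_eq.2.1)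
  | 2 => exact (lst_permHom bM v).trans (congrArg (fun L => permL L (lst (v : Vec))) pos_eq.2.2.1)
  | 3 =>
    show lst ((bEl⁻¹ • v : leechLattice) : Vec) = _
    rw [show bEl⁻¹ = permHom bM⁻¹ from (map_inv permHom bM).symm]
    exact (lst_permHom _ v).trans (congrArg (fun L => permL L (lst (v : Vec))) pos_eq.2.2.2.1)
  | 4 => exact lst_zEl v
  | 5 => exact lst_zEl_inv v
  | n + 6 => exact lst_zEl v

/-- The product of a word. -/
def wordEl (w : List ℕ) : Co0 := (w.map gl).prod

/-- The action of a word on lists. -/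
def wordL (w : List ℕ) (l : List ℤ) : List ℤ := w.foldr al l

theorem lst_wordEl (v : leechLattice) : ∀ w : List ℕ,
    lst ((wordEl w • v : leechLattice) : Vec) = wordL w (lst (v : Vec))
  | [] => by simp [wordEl, wordL]
  | k :: w => by
    rw [show wordEl (k :: w) = gl k * wordEl w from List.prod_cons, mul_smul, lst_gl, lst_wordEl v w]
    rfl

theorem wordEl_append (u v : List ℕ) : wordEl (u ++ v) = wordEl u * wordEl v := by
  simp [wordEl, List.prod_append]

/-- Equality of two elements, checked on the frame. -/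
theorem eq_of_frames {g h : Co0} (e : ∀ p, g • frame p = h • frame p) : g = h := by
  rw [← inv_mul_eq_one]
  exact eq_one_of_frames fun p => by rw [mul_smul, inv_smul_eq_iff, e]

theorem word_eq {w w' : List ℕ} (h : ∀ i < 24, wordL w (frameL i) = wordL w' (frameL i)) :
    wordEl w = wordEl w' :=
  eq_of_frames fun p => Subtype.ext (lst_injective (by
    rw [lst_wordEl, lst_wordEl, lst_frame, h _ (ix_lt p)]))

end Cfsg.Agent.Co1Out.Elements
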