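import Mathlib.Init

/-!
A monomial element as a word.
-/

set_option autoImplicit false

namespace Cfsg.Agent.Co1Out.MonoData

/-- The segments of the word, in the order of application. -/
def segs : List (List Nat) := [[4, 0, 0, 4], [4, 2, 1, 5, 2, 1], [5, 0, 2, 0, 5, 1]]

/-- The permutation. -/
def perm : List Nat := [18, 8, 4, 12, 16, 14, 2, 13, 1, 20, 11, 3, 22, 23, 7, 5, 6, 9, 17, 10, 21, 15, 19, 0]

/-- The signs. -/
def signs : Nat := 13929893

/-- The intermediate images. -/
def rows : List (List Nat) :=
  [[769211197025881270604421291995318862, 683454477782914235611131287641346638, 686053149211274974957632412564603408],
   [688646690693640001697914695497368080, 683454472985745472264657649676010066, 686053159114795289240665815664574992],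
   [769048779133148672949270886025279950, 769048699987193409634048709575064080, 686053159114795289240674611765985808],
   [764018741706185711164112617324689870, 769048704934117715927798508721551888, 686053159114795298464046648612373008],
   [854800190011856294991921957776605712, 769211117720347503956661949138618896, 686053159124466695797591645155246608],
   [603057538941699253047589690331904462, 683459548385159314902373406513512910, 686053159114804733973640351048024592],
   [769053849890292238346998397379557970, 603057459786072288036552500394342928, 686053159114795289240674611757589008],
   [688651924549227761892795617328579088, 764018820856976973045173738829003280, 686053159114795584388579791110423056],
   [769048779137984519189855099175844430, 769210959259186772000909599382718996, 686053159114795289240674611757597456],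
   [769211038409978033881970712297097806, 683297284156725630449872007170834898, 686043017909993463405462638131954192],
   [688646848995071561629993337650491920, 688651845243698860429815942006391378, 686053159114795288952444235605885456],
   [683459622738937642451493603896803856, 688646774641444197910916741122703954, 686053159114795289240674611757859344],
   [769211038409982756253097786048268754, 683459548540057510477143374872134222, 675668565397725633983613619099157008],
   [688651919597618863440997453113278864, 688652003854917514208301510661063122, 353746160168566321014722846687511056],
   [683459464287448174239014756144333328, 688646769684853207431368185968280014, 686053159114795289240674336879690256],
   [603057539091606054684311568096049742, 683454477782762976921412883316294098, 686053159114795289240674611489161744],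
   [769211043521316399217126466877143506, 854805339765053044439004153826067022, 686053159114795289240674620347531792],
   [688646853946831566725487421886513680, 769210959264173591006960540487006736, 686053159114795289240956086734307856],
   [688651919597623442700953432193712656, 769048700137100063552698411678976528, 686053159424280299062019680482378256],
   [688814020417971784830194241931657744, 769048858438677864943966260088556048, 686053159114795289231667412502856208],
   [688651766092907598548754820502077968, 683459543433550273636922923132994130, 686377677668453715967457767778173456],
   [603057538936863549917613621898656338, 603062530388473200949799885537298960, 686053159114493057785770954463920656],
   [769211038414964852888021661991320146, 769211117715511795922547498910497296, 686053476027445346298024985933398544],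
   [683454552136531859449336965525619220, 602895358965568103053217184191363728, 686053159114795289240674611757597192]]

end Cfsg.Agent.Co1Out.MonoData
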