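import Cfsg.Agent.Lib.Co1Out.Local
import Cfsg.Agent.Lib.Co1Out.MonoData
import Cfsg.Agent.Lib.Co2Out.Generate
import Cfsg.Agent.Lib.Co2Out.Chains

/-!
The translation, the doubling and the element of order three generate `Co0` modulo its centre.
-/

set_option autoImplicit false
set_option maxRecDepth 20000

namespace Cfsg.Agent.Co1Out.Generate

open scoped Pointwise symmDiff
open Cfsg Cfsg.Agent.Golay.Basic Cfsg.Agent.Golay.Design Cfsg.Agent.Golay.M24 Cfsg.Agent.Leech.Basic
  Cfsg.Agent.Leech.Index Cfsg.Agent.LeechAut.Gens Cfsg.Agent.LeechAut.Basic Cfsg.Agent.LeechAut.Cross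
  Cfsg.Agent.LeechAut.Maximal Cfsg.Agent.LeechAut.Conway23 Cfsg.Agent.LeechAut.Co1
  Cfsg.Agent.Co1Out.Elements Cfsg.Agent.Co1Out.Local Finset
open Cfsg.Agent.Co2Out.Elements (aM bM frameL lst_frame permHom_fix2 G2 gA gB double)
open Cfsg.Agent.Co2Out.Chains (unp)

/-- The permutation of the word. -/
def pmFun (p : GolayPt) : GolayPt := pt (MonoData.perm.getD (ix p) 0)

/-- Its inverse. -/
def pmInv (p : GolayPt) : GolayPt := pt (MonoData.perm.idxOf (ix p))

theorem pm_inv : ∀ p : GolayPt, pmInv (pmFun p) = p := by decide +kernel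

theorem pm_inv' : ∀ p : GolayPt, pmFun (pmInv p) = p := by decide +kernel

/-- The permutation. -/
def pmPerm : Equiv.Perm GolayPt := ⟨pmFun, pmInv, pm_inv, pm_inv'⟩

theorem pmPerm_mem : pmPerm ∈ M24 := mem_M24_of_basis (by
  have h : ∀ b ∈ basisMasks, isCode (mask (pmPerm • maskSet b)) = true := by decide +kernel
  exact fun b hb => mem_supports_iff.2 (h b hb))

/-- The permutation, in the group. -/
def pM : M24 := ⟨pmPerm, pmPerm_mem⟩

/-- The signs. -/
def Cm : Finset GolayPt := maskSet MonoData.signs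

theorem Cm_code : Cm ∈ Cfsg.Agent.Leech.Basic.codeSets := mem_supports_iff.2 (by decide +kernel)

/-- The monomial element. -/
def T0 : Co0 := sign Cm Cm_code * permHom pM

/-- Checking the three steps. -/
def stepsOK : List (List ℕ) → List ℤ → List (List ℤ) → Bool
  | [], _, [] => true
  | s :: ss, x, y :: ys => (wordL s x == y) && stepsOK ss y ys
  | _, _, _ => false

theorem steps_spec : ∀ (ss : List (List ℕ)) (ys : List (List ℤ)) (v : leechLattice),
    stepsOK ss (lst (v : Vec)) ys = true →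
    lst ((wordEl ss.reverse.flatten • v : leechLattice) : Vec) = ys.getLastD (lst (v : Vec))
  | [], [], v, _ => by simp [wordEl]
  | [], _ :: _, v, h => by simp [stepsOK] at h
  | _ :: _, [], v, h => by simp [stepsOK] at h
  | s :: ss, y :: ys, v, h => by
    simp only [stepsOK, Bool.and_eq_true, beq_iff_eq] at h
    obtain ⟨h1, h2⟩ := h
    rw [← lst_wordEl v s] at h1
    rw [← h1] at h2
    have h3 := steps_spec ss ys _ h2
    rw [List.reverse_cons, List.flatten_append, List.flatten_singleton, wordEl_append, mul_smul, h3,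
      List.getLastD_cons, h1]

/-- The image of a frame vector under the monomial element. -/
def monoL (i : ℕ) : List ℤ :=
  (List.range 24).map fun j =>
    if j = MonoData.perm.getD i 0 then (if MonoData.signs.testBit j then -8 else 8) else 0

theorem T0_frame (p : GolayPt) : lst ((T0 • frame p : leechLattice) : Vec) = monoL (ix p) := by
  refine List.map_congr_left fun j hj => ?_
  rw [T0, mul_smul, sign_smul, permHom_frame, Cfsg.Agent.LeechAut.Basic.flip, frame_coe]
  have hij : pt j = (pM : Equiv.Perm GolayPt) p ↔ j = MonoData.perm.getD (ix p) 0 := by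
    show pt j = pt _ ↔ _
    constructor
    · intro e
      have h := congrArg ix e
      rwa [ix_pt (List.mem_range.1 hj), ix_pt] at h
      have hb : ∀ q : GolayPt, MonoData.perm.getD (ix q) 0 < 24 := by decide +kernel
      exact hb p
    · rintro rfl; rfl
  have hbit : pt j ∈ Cm ↔ MonoData.signs.testBit j = true := by
    rw [Cm, mem_maskSet, ix_pt (List.mem_range.1 hj)]
  simp only [Pi.single_apply, hij, hbit]
  split_ifs <;> simp_all

theorem rows_ok : ∀ i : Fin 24,
    (stepsOK MonoData.segs (frameL i.1) ((MonoData.rows.getD i.1 []).map unp) &&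
      (((MonoData.rows.getD i.1 []).map unp).getLastD (frameL i.1) == monoL i.1)) = true := by
  decide +kernel

theorem T0_word : T0 = wordEl MonoData.segs.reverse.flatten := by
  refine eq_of_frames fun p => Subtype.ext (lst_injective ?_)
  have h := rows_ok ⟨ix p, ix_lt p⟩
  simp only [Bool.and_eq_true, beq_iff_eq] at h
  obtain ⟨h1, h2⟩ := h
  rw [← lst_frame] at h1 h2
  rw [T0_frame, steps_spec _ _ (frame p) h1]
  exact h2.symm

/-! ### The monomial elements in a subgroup -/

/-- The permutations of the monomial elements in a subgroup. -/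
def permsOf (H : Subgroup Co0) : Subgroup M24 where
  carrier := {σ | ∃ c, ∃ hc : c ∈ Cfsg.Agent.Leech.Basic.codeSets, sign c hc * permHom σ ∈ H}
  one_mem' := ⟨∅, empty_mem, by
    convert H.one_mem
    exact ext' fun v => Subtype.ext (funext fun i => by
      simp [Cfsg.Agent.LeechAut.Basic.flip])⟩
  mul_mem' := by
    rintro σ τ ⟨c, hc, h⟩ ⟨d, hd, h'⟩
    refine ⟨_, symmDiff_mem_supports hc (Cfsg.Agent.Golay.M24.smul_mem_supports σ.2 hd), ?_⟩
    rw [← Cfsg.Agent.LeechAut.Co1.sign_mul hc (Cfsg.Agent.Golay.M24.smul_mem_supports σ.2 hd), ← conj_sign σ d hd,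
      map_mul]
    convert H.mul_mem h h' using 1
    group
  inv_mem' := by
    rintro σ ⟨c, hc, h⟩
    refine ⟨_, Cfsg.Agent.Golay.M24.smul_mem_supports (σ⁻¹).2 hc, ?_⟩
    rw [← conj_sign σ⁻¹ c hc, map_inv]
    convert H.inv_mem h using 1
    rw [mul_inv_rev, sign_inv]
    group

/-- The first permutation fixing the extra point. -/
def p5 : M24 := aM⁻¹ * pM⁻¹ * bM * bM * pM

/-- The second permutation fixing the extra point. -/
def p8 : M24 := aM * bM * pM⁻¹ * bM * pM

theorem p_facts : ((p5 : M24) : Equiv.Perm GolayPt) none = none ∧ ((p8 : M24) : Equiv.Perm GolayPt) none = none ∧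
    (∀ q, ((p5 : M24) : Equiv.Perm GolayPt)^[5] q = q) ∧ (∀ q, ((p8 : M24) : Equiv.Perm GolayPt)^[8] q = q) ∧
    (∃ q, ((p5 : M24) : Equiv.Perm GolayPt) q ≠ q) ∧ (∃ q, ((p8 : M24) : Equiv.Perm GolayPt)^[4] q ≠ q) ∧
    (pM : Equiv.Perm GolayPt) none = some 0 := by decide +kernel

theorem order_p5 : orderOf p5 = 5 := by
  haveI : Fact (Nat.Prime 5) := ⟨by norm_num⟩
  refine orderOf_eq_prime (Subtype.ext (Equiv.ext fun q => ?_)) fun h => ?_
  · rw [SubmonoidClass.coe_pow, Equiv.Perm.coe_pow]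
    exact p_facts.2.2.1 q
  · obtain ⟨q, hq⟩ := p_facts.2.2.2.2.1
    exact hq (by rw [h]; rfl)

theorem order_p8 : orderOf p8 = 8 := by
  haveI : Fact (Nat.Prime 2) := ⟨Nat.prime_two⟩
  refine orderOf_eq_prime_pow (p := 2) (n := 2) (fun h => ?_) (Subtype.ext (Equiv.ext fun q => ?_))
  · obtain ⟨q, hq⟩ := p_facts.2.2.2.2.2.1
    refine hq ?_
    rw [← Equiv.Perm.coe_pow, ← SubmonoidClass.coe_pow, show (4 : ℕ) = 2 ^ 2 by norm_num, h]
    rfl
  · rw [SubmonoidClass.coe_pow, Equiv.Perm.coe_pow]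
    exact p_facts.2.2.2.1 q

/-- The stabiliser of the extra point, inside the stabiliser of a vector. -/
def Φ : MulAction.stabilizer M24 (none : GolayPt) →* G2 where
  toFun σ := ⟨permHom (σ : M24), MulAction.mem_stabilizer_iff.2 (permHom_fix2 σ.2)⟩
  map_one' := Subtype.ext (map_one permHom)
  map_mul' a b := Subtype.ext (map_mul permHom _ _)

theorem Φ_injective : Function.Injective Φ := fun a b h =>
  Subtype.ext (permHom_injective (congrArg Subtype.val h))

theorem arith_K {n s f : ℕ} (hd : n * 253 ∣ 10200960) (hn : n % 23 = 1) (h5 : 5 ∣ n) (h8 : 8 ∣ n)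
    (e' : n * 253 = s * (11 * f)) (hs : s % 11 = 1) (hf : f ∣ 10) : n * 253 = 10200960 := by
  have hn' : n ∣ 40320 := Nat.dvd_of_mul_dvd_mul_right (by norm_num : 0 < 253) hd
  obtain ⟨m, rfl⟩ : 40 ∣ n := Nat.Coprime.mul_dvd_of_dvd_of_dvd (m := 5) (n := 8) (by norm_num) h5 h8
  have hm : m ∣ 1008 := Nat.dvd_of_mul_dvd_mul_left (by norm_num : 0 < 40) (by simpa using hn')
  have key : ∀ m < 1009, 40 * m % 23 = 1 → m ∣ 1008 → m = 1008 ∨ m = 42 := by decide +kernel
  rcases key m (by have := Nat.le_of_dvd (by norm_num) hm; omega) hn hm with rfl | rfl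
  · rfl
  · exfalso
    have hf' := Nat.le_of_dvd (by norm_num) hf
    have hs' : 11 * f * s = 425040 := by linarith
    revert hf
    interval_cases f <;> first | omega | norm_num

theorem stab_le (S : Subgroup M24) (hA : aM ∈ S) (hB : bM ∈ S) (hp : pM ∈ S) :
    MulAction.stabilizer M24 (none : GolayPt) ≤ S := by
  classical
  haveI := Cfsg.Agent.Co2Out.Local.finite_G2
  haveI := Cfsg.Agent.LeechAut.Crit23.fact23
  haveI := Cfsg.Agent.LeechAut.Crit23.fact11
  let K : Subgroup G2 := (S.subgroupOf (MulAction.stabilizer M24 (none : GolayPt))).map Φ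
  have hmem : ∀ (σ : M24) (h : (σ : Equiv.Perm GolayPt) none = none), σ ∈ S → Φ ⟨σ, h⟩ ∈ K :=
    fun σ h hσ => ⟨⟨σ, h⟩, hσ, rfl⟩
  have hAK : gA ∈ K := hmem aM rfl hA
  have hBK : gB ∈ K := hmem bM rfl hB
  have h5 : Φ ⟨p5, p_facts.1⟩ ∈ K := hmem _ _ (by
    exact S.mul_mem (S.mul_mem (S.mul_mem (S.mul_mem (S.inv_mem hA) (S.inv_mem hp)) hB) hB) hp)
  have h8 : Φ ⟨p8, p_facts.2.1⟩ ∈ K := hmem _ _ (by
    exact S.mul_mem (S.mul_mem (S.mul_mem (S.mul_mem hA hB) (S.inv_mem hp)) hB) hp)
  have hd : Nat.card K ∣ 10200960 := (Subgroup.card_dvd_of_le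
    ((Subgroup.map_mono le_top).trans_eq (MonoidHom.range_eq_map Φ).symm)).trans
    ((Subgroup.card_range_dvd Φ).trans (Cfsg.Agent.Golay.Trans.card_stabilizer_point none).dvd)
  obtain ⟨n, hn, e⟩ := Cfsg.Agent.Co2Out.Generate.sylow_count K Cfsg.Agent.Co2Out.Local.order_A
    (by rw [Cfsg.Agent.Co2Out.Local.card_G2]; norm_num) hAK
  rw [Cfsg.Agent.Co2Out.Generate.card_norm_A hAK hBK] at e
  obtain ⟨s, hs, e'⟩ := Cfsg.Agent.Co2Out.Generate.sylow_count K Cfsg.Agent.Co2Out.Local.order_B
    (by rw [Cfsg.Agent.Co2Out.Local.card_G2]; norm_num) hBK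
  obtain ⟨f, hf, hfc⟩ := Cfsg.Agent.Co2Out.Generate.card_norm_B_dvd (H := K) hBK
  rw [hfc, e] at e'
  have hord : ∀ x, orderOf (Φ x) = orderOf (x : M24) := fun x => by
    rw [orderOf_injective Φ Φ_injective, Subgroup.orderOf_coe]
  have h5' : 5 ∣ n := by
    have h : 5 ∣ n * 253 := by
      rw [← e, ← order_p5, ← hord ⟨p5, p_facts.1⟩]
      exact Subgroup.orderOf_dvd_natCard K h5
    exact Nat.Coprime.dvd_of_dvd_mul_right (by norm_num) h
  have h8' : 8 ∣ n := by
    have h : 8 ∣ n * 253 := by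
      rw [← e, ← order_p8, ← hord ⟨p8, p_facts.2.1⟩]
      exact Subgroup.orderOf_dvd_natCard K h8
    exact Nat.Coprime.dvd_of_dvd_mul_right (by norm_num) h
  have hcard : Nat.card K = 10200960 := e.trans (arith_K (e ▸ hd) hn h5' h8' e' hs hf)
  have htop : S.subgroupOf (MulAction.stabilizer M24 (none : GolayPt)) = ⊤ := by
    refine Subgroup.eq_top_of_card_eq _ ?_
    rw [← Subgroup.card_map_of_injective (f := Φ) Φ_injective]
    exact hcard.trans (Cfsg.Agent.Golay.Trans.card_stabilizer_point none).symm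
  exact Subgroup.subgroupOf_eq_top.1 htop

theorem perms_top (S : Subgroup M24) (hA : aM ∈ S) (hB : bM ∈ S) (hp : pM ∈ S) : S = ⊤ := by
  rw [eq_top_iff]
  intro σ _
  have hst := stab_le S hA hB hp
  cases h : (σ : Equiv.Perm GolayPt) none with
  | none => exact hst h
  | some t =>
    have hτ : aM ^ t.val * pM ∈ S := S.mul_mem (S.pow_mem hA _) hp
    have hfix : ((aM ^ t.val * pM)⁻¹ * σ : M24) ∈ MulAction.stabilizer M24 (none : GolayPt) := by
      show (((aM ^ t.val * pM)⁻¹ * σ : M24) : Equiv.Perm GolayPt) none = none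
      rw [Subgroup.coe_mul, Equiv.Perm.mul_apply, h, Subgroup.coe_inv, Equiv.Perm.inv_eq_iff_eq,
        Subgroup.coe_mul, Equiv.Perm.mul_apply, p_facts.2.2.2.2.2.2, SubmonoidClass.coe_pow]
      show _ = (transl ^ t.val) (some 0)
      rw [(transl_pow t.val).1, ZMod.natCast_zmod_val, zero_add]
    have := S.mul_mem hτ (hst hfix)
    rwa [mul_inv_cancel_left] at this

/-- The octad of the power of the monomial element. -/
def O12 : Finset GolayPt := maskSet 4726026

theorem O12_octad : O12 ∈ octads := by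
  rw [O12, mem_octads_iff]
  decide +kernel

/-- The image of a list under the monomial element. -/
def tL (l : List ℤ) : List ℤ :=
  (List.range 24).map fun j =>
    if MonoData.signs.testBit j then -(l.getD (MonoData.perm.idxOf j) 0) else l.getD (MonoData.perm.idxOf j) 0

theorem lst_T0 (v : leechLattice) : lst ((T0 • v : leechLattice) : Vec) = tL (lst (v : Vec)) := by
  refine List.map_congr_left fun j hj => ?_
  rw [T0, mul_smul, sign_smul, Cfsg.Agent.LeechAut.Basic.flip, permHom_smul]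
  have hj' := List.mem_range.1 hj
  have hi : MonoData.perm.idxOf j < 24 := by
    revert j; decide +kernel
  have e : (pM : Equiv.Perm GolayPt)⁻¹ (pt j) = pt (MonoData.perm.idxOf j) := by
    show pmInv (pt j) = _
    rw [pmInv, ix_pt hj']
  have hbit : pt j ∈ Cm ↔ MonoData.signs.testBit j = true := by
    rw [Cm, mem_maskSet, ix_pt hj']
  rw [e, ← getD_lst (v : Vec), ix_pt hi]
  simp only [hbit]

theorem lst_T0_pow (v : leechLattice) : ∀ k : ℕ,
    lst ((T0 ^ k • v : leechLattice) : Vec) = tL^[k] (lst (v : Vec))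
  | 0 => by simp
  | k + 1 => by rw [pow_succ', mul_smul, lst_T0, lst_T0_pow v k, Function.iterate_succ_apply']

theorem twelve : ∀ i < 24, tL^[12] (frameL i) =
    (List.range 24).map fun j => if j = i then (if (4726026 : ℕ).testBit j then 8 else -8) else 0 := by
  decide +kernel

theorem T0_twelve : negOne * T0 ^ 12 = sign O12 (octad_mem_supports O12_octad) := by
  refine eq_of_frames fun p => Subtype.ext (lst_injective ?_)
  rw [mul_smul, negOne_smul, sign_smul]
  have h := lst_T0_pow (frame p) 12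
  rw [lst_frame, twelve _ (ix_lt p)] at h
  refine List.map_congr_left fun j hj => ?_
  have hj' := List.mem_range.1 hj
  have e := congrArg (fun l : List ℤ => l.getD j 0) h
  rw [show j = ix (pt j) from (ix_pt hj').symm, getD_lst, ix_pt hj', List.getD_eq_getElem _ _ (by simpa using hj'),
    List.getElem_map, List.getElem_range] at e
  show -((T0 ^ 12 • frame p : leechLattice) : Vec) (pt j) = _
  rw [e, Cfsg.Agent.LeechAut.Basic.flip, frame_coe, O12]
  simp only [mem_maskSet, ix_pt hj', Pi.single_apply]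
  have hji : j = ix p ↔ pt j = p := ⟨fun e => by rw [e, pt_ix], fun e => by rw [← e, ix_pt hj']⟩
  simp only [hji]
  split_ifs <;> simp_all

theorem z_notMem : zEl ∉ crossStab := by
  intro h
  obtain ⟨i, s, hs, hv⟩ := h (frame none) ⟨none, 8, Or.inl rfl, rfl⟩
  rw [zEl_smul, frame_coe] at hv
  have h2 : ∀ i : GolayPt, ∃ p, p ≠ i ∧ mFun R (Pi.single none 8) p ≠ 0 := by decide +kernel
  obtain ⟨p, hp, hp0⟩ := h2 i
  rw [hv, Pi.single_eq_of_ne hp] at hp0
  exact hp0 rfl

/-- The generators generate. -/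
theorem eq_top (H : Subgroup Co0) (hn : negOne ∈ H) (hA : g23 ∈ H) (hB : bEl ∈ H) (hZ : zEl ∈ H) :
    H = ⊤ := by
  have hgl : ∀ k, gl k ∈ H := by
    intro k
    match k with
    | 0 => exact hA
    | 1 => exact H.inv_mem hA
    | 2 => exact hB
    | 3 => exact H.inv_mem hB
    | 4 => exact hZ
    | 5 => exact H.inv_mem hZ
    | n + 6 => exact hZ
  have hT : T0 ∈ H := by
    rw [T0_word]
    refine H.list_prod_mem fun x hx => ?_
    obtain ⟨k, -, rfl⟩ := List.mem_map.1 hx
    exact hgl k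
  have e0 : sign ∅ empty_mem = 1 := ext' fun v => Subtype.ext (funext fun i => by
    simp [Cfsg.Agent.LeechAut.Basic.flip])
  have hperms : permsOf H = ⊤ := perms_top _ ⟨∅, empty_mem, by rw [e0, one_mul]; exact hA⟩
    ⟨∅, empty_mem, by rw [e0, one_mul]; exact hB⟩ ⟨Cm, Cm_code, hT⟩
  have hO : sign O12 (octad_mem_supports O12_octad) ∈ H := T0_twelve ▸ H.mul_mem hn (H.pow_mem hT 12)
  have hoct : ∀ o (ho : o ∈ octads), sign o (octad_mem_supports ho) ∈ H := by
    intro o ho
    obtain ⟨σ, hσ, e⟩ := Cfsg.Agent.Golay.Trans.octads_transitive O12_octad ho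
    obtain ⟨c, hc, h⟩ := (hperms ▸ Subgroup.mem_top (⟨σ, hσ⟩ : M24) : (⟨σ, hσ⟩ : M24) ∈ permsOf H)
    have h' := H.mul_mem (H.mul_mem h hO) (H.inv_mem h)
    rw [show sign c hc * permHom ⟨σ, hσ⟩ * sign O12 (octad_mem_supports O12_octad) *
        (sign c hc * permHom ⟨σ, hσ⟩)⁻¹ = sign c hc * (permHom ⟨σ, hσ⟩ * sign O12 (octad_mem_supports O12_octad) *
          (permHom ⟨σ, hσ⟩)⁻¹) * (sign c hc)⁻¹ by group, conj_sign] at h'
    have hs1 := sign_mem_signSub c hc
    rw [signSub_comm hs1 (sign_mem_signSub _ _), mul_inv_cancel_right] at h'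
    rwa [sign_congr (show ((⟨σ, hσ⟩ : M24) : Equiv.Perm GolayPt) • O12 = o from e) _
      (octad_mem_supports ho)] at h'
  have hspan : ∀ L : List ℕ, (∀ b ∈ L, maskSet b ∈ octads) → ∀ x ∈ spanList L,
      ∃ h : maskSet x ∈ Cfsg.Agent.Leech.Basic.codeSets, sign _ h ∈ H := by
    intro L
    induction L with
    | nil =>
      intro _ x hx
      obtain rfl := List.mem_singleton.1 hx
      have e : maskSet 0 = ∅ := by ext p; simp
      exact ⟨e ▸ empty_mem, by rw [sign_congr e _ empty_mem, e0]; exact H.one_mem⟩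
    | cons b bs ih =>
      intro hL x hx
      have hb := hL b List.mem_cons_self
      have ih' := ih fun c hc => hL c (List.mem_cons_of_mem _ hc)
      simp only [spanList, List.mem_append, List.mem_map] at hx
      rcases hx with hx | ⟨y, hy, rfl⟩
      · exact ih' x hx
      · obtain ⟨h, hh⟩ := ih' y hy
        have hx : maskSet (b ^^^ y) ∈ Cfsg.Agent.Leech.Basic.codeSets := by
          rw [mask_maskSet_xor]; exact symmDiff_mem_supports (octad_mem_supports hb) h
        refine ⟨hx, ?_⟩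
        rw [sign_congr (mask_maskSet_xor b y) hx (symmDiff_mem_supports (octad_mem_supports hb) h),
          ← Cfsg.Agent.LeechAut.Co1.sign_mul (octad_mem_supports hb) h]
        exact H.mul_mem (hoct _ hb) hh
  have hsign : ∀ c (hc : c ∈ Cfsg.Agent.Leech.Basic.codeSets), sign c hc ∈ H := by
    intro c hc
    obtain ⟨h, hh⟩ := hspan basisMasks basis_octads _ (mem_codeList (mem_supports_iff.1 hc))
    rwa [sign_congr (maskSet_mask c) h hc] at hh
  have hle : crossStab ≤ H := by
    intro g hg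
    obtain ⟨c, hc, σ, rfl⟩ := exists_parts hg
    obtain ⟨d, hd, h⟩ := (hperms ▸ Subgroup.mem_top σ : σ ∈ permsOf H)
    have h2 := H.mul_mem (H.mul_mem (hsign c hc) (H.inv_mem (hsign d hd))) h
    rwa [mul_assoc, inv_mul_cancel_left] at h2
  exact isCoatom_crossStab.2 H (lt_of_le_of_ne hle fun e => z_notMem (e ▸ hZ))

end Cfsg.Agent.Co1Out.Generate
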