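import Cfsg.Agent.Lib.Co1Out.Elements
import Cfsg.Agent.Lib.Co2Out.Local
import Cfsg.Prelude.Def_Spor_Conway

/-!
The normaliser of the translation and the centraliser of the doubling in the quotient of `Co0`
by its centre.
-/

set_option autoImplicit false
set_option maxRecDepth 20000

namespace Cfsg.Agent.Co1Out.Local

open scoped Pointwise
open Cfsg Cfsg.Agent.Golay.Basic Cfsg.Agent.Golay.M24 Cfsg.Agent.Leech.Basic
  Cfsg.Agent.Leech.Index Cfsg.Agent.LeechAut.Gens Cfsg.Agent.LeechAut.Basic Cfsg.Agent.LeechAut.Cross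
  Cfsg.Agent.LeechAut.Conway23 Cfsg.Agent.LeechAut.Co1 Cfsg.Agent.Co1Out.Elements Finset
open Cfsg.Agent.Co2Out.Elements (aM bM double cEl cEl_smul lst_cEl cL frameL lst_frame eq_one_of_frames
  permHom_fix2 gA gB)
open Cfsg.Agent.Co2Out.Local (double_pow qr_pow eq_fv fv cls lg shape candCode table_two table_inv
  sum_cls orbit_rep)

/-- The group. -/
abbrev Q : Type := Co0 ⧸ Subgroup.center Co0

theorem card_Q : Nat.card Q = 4157776806543360000 := card_quotient

theorem finite_Q : Finite Q := Nat.finite_of_card_ne_zero (by rw [card_Q]; norm_num)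

theorem mem_center {g : Co0} : g ∈ Subgroup.center Co0 ↔ g = 1 ∨ g = negOne :=
  ⟨center_eq g, fun h => h.elim (fun e => e ▸ one_mem _) fun e => e ▸ negOne_central⟩

theorem mk_eq {x y : Co0} : (x : Q) = (y : Q) ↔ x = y ∨ x = negOne * y := by
  rw [QuotientGroup.eq, mem_center, inv_mul_eq_one]
  refine or_congr Iff.rfl ⟨fun h => ?_, fun h => ?_⟩
  · have e : y = x * negOne := by rw [← h, mul_inv_cancel_left]
    rw [e, negOne_comm x, ← mul_assoc]
    have h2 : negOne * negOne = 1 := ext' fun v => by rw [mul_smul, negOne_smul, negOne_smul, neg_neg, one_smul]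
    rw [h2, one_mul]
  · have h2 : negOne * negOne = 1 := ext' fun v => by rw [mul_smul, negOne_smul, negOne_smul, neg_neg, one_smul]
    rw [h, mul_inv_rev, mul_assoc]
    have : negOne⁻¹ = negOne := inv_eq_of_mul_eq_one_right h2
    rw [this, ← negOne_comm, inv_mul_cancel_left]

theorem mk_neg (x : Co0) : ((negOne * x : Co0) : Q) = (x : Q) := mk_eq.2 (Or.inr rfl)

theorem neg_sq : negOne * negOne = 1 :=
  ext' fun v => by rw [mul_smul, negOne_smul, negOne_smul, neg_neg, one_smul]

theorem permHom_frame (σ : M24) (p : GolayPt) :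
    permHom σ • frame p = frame ((σ : Equiv.Perm GolayPt) p) := by
  refine Subtype.ext (funext fun q => ?_)
  rw [permHom_smul, frame_coe, frame_coe]
  simp only [Pi.single_apply, Equiv.Perm.inv_def, Equiv.symm_apply_eq]

/-- A monomial element fixing the extra frame vector, conjugating one permutation to another. -/
theorem mono_conj {x : Co0} (hf : x • frame none = frame none) {σ τ : M24}
    (h : x * permHom σ = permHom τ * x) :
    ∃ (π : M24) (T : Finset GolayPt), T ∈ Cfsg.Agent.Leech.Basic.codeSets ∧ none ∉ T ∧ (π : Equiv.Perm GolayPt) none = none ∧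
      (∀ p, ((x • frame p : leechLattice) : Vec) =
        Pi.single ((π : Equiv.Perm GolayPt) p) (if (π : Equiv.Perm GolayPt) p ∈ T then -8 else 8)) ∧
      (T = ∅ → x = permHom π) ∧
      (∀ p, (π : Equiv.Perm GolayPt) ((σ : Equiv.Perm GolayPt) p) =
        (τ : Equiv.Perm GolayPt) ((π : Equiv.Perm GolayPt) p)) ∧
      ∀ q, (τ : Equiv.Perm GolayPt) q ∈ T ↔ q ∈ T := by
  obtain ⟨⟨π, T, hT⟩, rfl⟩ := exists_mono x (fixesCross_of_fix hf)
  have hn : (π : Equiv.Perm GolayPt) none = none ∧ none ∉ T := by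
    have e := congrArg (fun z : leechLattice => (z : Vec) none) hf
    simp only [mono_frame, frame_coe, Pi.single_eq_same] at e
    by_cases hne : (π : Equiv.Perm GolayPt) none = none
    · refine ⟨hne, fun hm => ?_⟩
      rw [hne, Pi.single_eq_same, if_pos hm] at e
      norm_num at e
    · rw [Pi.single_eq_of_ne (Ne.symm hne)] at e
      norm_num at e
  have key : ∀ p, (π : Equiv.Perm GolayPt) ((σ : Equiv.Perm GolayPt) p) =
      (τ : Equiv.Perm GolayPt) ((π : Equiv.Perm GolayPt) p) ∧
      ((π : Equiv.Perm GolayPt) ((σ : Equiv.Perm GolayPt) p) ∈ T ↔ (π : Equiv.Perm GolayPt) p ∈ T) := by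
    intro p
    have e := congrArg (fun g : Co0 => ((g • frame p : leechLattice) : Vec)) h
    simp only [mul_smul, permHom_frame, mono_frame] at e
    have e' : ∀ q, (Pi.single ((π : Equiv.Perm GolayPt) ((σ : Equiv.Perm GolayPt) p))
        (if (π : Equiv.Perm GolayPt) ((σ : Equiv.Perm GolayPt) p) ∈ T then -8 else 8) : Vec) q =
        (Pi.single ((π : Equiv.Perm GolayPt) p) (if (π : Equiv.Perm GolayPt) p ∈ T then -8 else 8) : Vec)
          ((τ : Equiv.Perm GolayPt)⁻¹ q) := fun q => by
      rw [congrFun e q, permHom_smul, mono_frame]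
    have h1 := e' ((π : Equiv.Perm GolayPt) ((σ : Equiv.Perm GolayPt) p))
    rw [Pi.single_eq_same] at h1
    by_cases hp : (τ : Equiv.Perm GolayPt)⁻¹ ((π : Equiv.Perm GolayPt) ((σ : Equiv.Perm GolayPt) p)) =
        (π : Equiv.Perm GolayPt) p
    · refine ⟨by rwa [Equiv.Perm.inv_eq_iff_eq] at hp, ?_⟩
      rw [hp, Pi.single_eq_same] at h1
      split_ifs at h1 with a b b <;> simp_all
    · rw [Pi.single_eq_of_ne hp] at h1
      split_ifs at h1 <;> norm_num at h1
  refine ⟨π, T, hT, hn.2, hn.1, fun p => mono_frame _ p, fun h0 => ?_, fun p => (key p).1, fun q => ?_⟩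
  · subst h0
    refine eq_of_frames fun p => Subtype.ext ?_
    rw [mono_frame, permHom_frame, frame_coe]
    simp
  · obtain ⟨p, rfl⟩ := (π : Equiv.Perm GolayPt).surjective q
    rw [← (key p).1]
    exact (key p).2

theorem shift_closed : ∀ k : ZMod 23, k ≠ 0 → ∀ t : ZMod 23, ∃ n < 23, t = (n : ℕ) * k := by decide +kernel

theorem no_full : isCode (2 ^ 23 - 1) = false ∧ maskSet (2 ^ 23 - 1) = univ.erase none := by decide +kernel

/-- An element normalising the subgroup of order 23. -/
theorem normalizer_A {c : Co0} {k : ℕ} (hk : c * g23 * c⁻¹ = g23 ^ k) :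
    ∃ (i : Fin 23) (j : Fin 11), c = g23 ^ (i : ℕ) * bEl ^ (j : ℕ) ∨
      c = negOne * (g23 ^ (i : ℕ) * bEl ^ (j : ℕ)) := by
  have hk23 : ¬ 23 ∣ k := by
    rintro ⟨j, rfl⟩
    have h1 : g23 ^ (23 * j) = 1 := by
      rw [pow_mul, ← orderOf_g23, pow_orderOf_eq_one, one_pow]
    rw [h1, conj_eq_one_iff] at hk
    have := orderOf_g23
    rw [hk, orderOf_one] at this
    norm_num at this
  have hc : c * g23 = g23 ^ k * c := mul_inv_eq_iff_eq_mul.1 hk
  have hgf : g23 • frame none = frame none := by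
    rw [g23, permHom_frame]
    rfl
  set y := c • frame none with hy
  have hgy : g23 • y = y := by
    obtain ⟨m, -, hm⟩ := Nat.exists_mul_mod_eq_one_of_coprime
      ((Nat.Prime.coprime_iff_not_dvd (by norm_num)).2 hk23).symm (by norm_num : 1 < 23)
    have h1 : g23 ^ k • y = y := by rw [← hk, hy, mul_smul, mul_smul, inv_smul_smul, hgf]
    have h2 : (g23 ^ k) ^ m • y = y := MulAction.mem_stabilizer_iff.1 (Subgroup.pow_mem _
      (MulAction.mem_stabilizer_iff.2 h1) m)
    rwa [← pow_mul, ← Nat.mod_add_div (k * m) 23, hm, pow_add, pow_one, pow_mul, ← orderOf_g23,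
      pow_orderOf_eq_one, one_pow, mul_one] at h2
  have hconst : ∀ x : ZMod 23, (y : Vec) (some x) = (y : Vec) (some 0) := by
    have step : ∀ x : ZMod 23, (y : Vec) (some (x + 1)) = (y : Vec) (some x) := by
      intro x
      conv_lhs => rw [← hgy, g23, permHom_smul]
      show (y : Vec) (transl⁻¹ (some (x + 1))) = _
      rw [show transl⁻¹ (some (x + 1) : GolayPt) = some x by rw [Equiv.Perm.inv_eq_iff_eq]; rfl]
    intro x
    rw [← ZMod.natCast_zmod_val x]
    induction x.val with
    | zero => rw [Nat.cast_zero]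
    | succ n ih => rw [Nat.cast_succ, step, ih]
  have e2 : sqNorm (y : Vec) = 64 := (sqNorm_smul c _).trans (sqNorm_frame none)
  simp only [sqNorm, Fintype.sum_option, hconst, sum_const, card_univ, ZMod.card, nsmul_eq_mul] at e2
  push_cast at e2
  set b := (y : Vec) (some 0) with hb
  set s := (y : Vec) none with hs
  have hb1 : -1 ≤ b ∧ b ≤ 1 := by constructor <;> nlinarith [sq_nonneg s]
  have hb0 : b = 0 := by
    by_contra hne
    have hbb : b ^ 2 = 1 := by
      rcases (by omega : b = 1 ∨ b = -1) with e | e <;> rw [e] <;> rfl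
    rw [hbb] at e2
    have hs9 : -8 ≤ s ∧ s ≤ 8 := by constructor <;> nlinarith
    obtain ⟨s1, s2⟩ := hs9
    interval_cases s <;> norm_num at e2
  rw [hb0] at e2
  have hs8 : s = 8 ∨ s = -8 := sq_eq_sq_iff_eq_or_eq_neg.1 (by linarith)
  obtain ⟨c', hc', hf, hcc⟩ : ∃ c', (c' = c ∨ c' = negOne * c) ∧ c' • frame none = frame none ∧
      c' * permHom tau = permHom (tau ^ k) * c' := by
    rw [map_pow]
    rcases hs8 with h8 | h8
    · refine ⟨c, Or.inl rfl, ?_, hc⟩
      rw [← hy]
      refine Subtype.ext (funext fun p => ?_)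
      cases p with
      | none => rw [frame_coe, Pi.single_eq_same]; exact h8
      | some x => rw [frame_coe, Pi.single_eq_of_ne (Option.some_ne_none x), hconst]; exact hb0
    · refine ⟨negOne * c, Or.inr rfl, ?_, ?_⟩
      · rw [mul_smul, ← hy, negOne_smul]
        refine Subtype.ext (funext fun p => ?_)
        show -((y : Vec) p) = _
        cases p with
        | none => rw [frame_coe, Pi.single_eq_same, ← hs, h8]; rfl
        | some x => rw [frame_coe, Pi.single_eq_of_ne (Option.some_ne_none x), hconst, hb0]; rfl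
      · rw [mul_assoc, ← g23, hc, ← mul_assoc, ← negOne_comm, mul_assoc]
  obtain ⟨π, T, hT, hnT, hπ, -, hperm, hconj, hinv⟩ := mono_conj hf hcc
  have hT0 : T = ∅ := by
    by_contra hne
    obtain ⟨q, hq⟩ := Finset.nonempty_iff_ne_empty.2 hne
    obtain ⟨t, rfl⟩ := Option.ne_none_iff_exists'.1 (fun e : q = none => hnT (e ▸ hq))
    have hk0 : (k : ZMod 23) ≠ 0 := fun h => hk23 ((ZMod.natCast_eq_zero_iff k 23).1 h)
    have hshift : ∀ n : ℕ, some (t + n * (k : ZMod 23)) ∈ T := by
      intro n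
      induction n with
      | zero => simpa using hq
      | succ n ih =>
        have h := (hinv (some (t + n * (k : ZMod 23)))).2 ih
        rw [show ((tau ^ k : M24) : Equiv.Perm GolayPt) = transl ^ k from SubmonoidClass.coe_pow tau k,
          (transl_pow k).1] at h
        rwa [Nat.cast_succ, add_mul, one_mul, ← add_assoc]
    have hall : T = univ.erase none := by
      refine Finset.ext fun q => ⟨fun h => mem_erase.2 ⟨fun e => hnT (e ▸ h), mem_univ _⟩, fun h => ?_⟩
      obtain ⟨u, rfl⟩ := Option.ne_none_iff_exists'.1 (mem_erase.1 h).1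
      obtain ⟨n, -, hn⟩ := shift_closed _ hk0 (u - t)
      have := hshift n
      rwa [← hn, add_sub_cancel] at this
    have hcode := mem_supports_iff.1 hT
    rw [hall, ← no_full.2, mask_maskSet (by norm_num), no_full.1] at hcode
    exact Bool.false_ne_true hcode
  have hpi := hperm hT0
  have hx : ((⟨permHom π, MulAction.mem_stabilizer_iff.2 (permHom_fix2 hπ)⟩ : Cfsg.Agent.Co2Out.Elements.G2)) *
      gA * (⟨permHom π, MulAction.mem_stabilizer_iff.2 (permHom_fix2 hπ)⟩)⁻¹ ∈ Subgroup.zpowers gA := by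
    refine Subgroup.mem_zpowers_iff.2 ⟨(k : ℤ), Subtype.ext ?_⟩
    rw [zpow_natCast, Subgroup.coe_pow, Subgroup.coe_mul, Subgroup.coe_mul, Subgroup.coe_inv]
    show g23 ^ k = permHom π * g23 * (permHom π)⁻¹
    rw [← hpi, eq_mul_inv_iff_mul_eq]
    rw [map_pow] at hcc
    exact hcc.symm
  obtain ⟨i, j, hij⟩ := Cfsg.Agent.Co2Out.Local.normalizer_A hx
  have he : c' = g23 ^ (i : ℕ) * bEl ^ (j : ℕ) := by
    rw [hpi]
    exact congrArg Subtype.val hij
  refine ⟨i, j, ?_⟩
  rcases hc' with rfl | rfl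
  · exact Or.inl he
  · right
    rw [← he, ← mul_assoc, neg_sq, one_mul]

/-! ### The centraliser of the doubling -/

/-- The code word of the squares with zero. -/
def S0 : Finset GolayPt := univ.filter fun p => cls p = 1 ∨ cls p = 2

theorem S0_code : S0 ∈ Cfsg.Agent.Leech.Basic.codeSets := mem_supports_iff.2 (by decide +kernel)

/-- The sign change. -/
def sEl : Co0 := sign S0 S0_code

theorem sets_table : ∀ b0 b1 b5 : Bool,
    isCode (mask (univ.filter fun p => ![false, b0, b1, b5] (cls p))) = true →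
      (univ.filter fun p => ![false, b0, b1, b5] (cls p)) = ∅ ∨
        (univ.filter fun p => ![false, b0, b1, b5] (cls p)) = S0 := by decide +kernel

theorem double_pows : ∀ p : GolayPt, (double ^ 10) p = mulFun 12 p ∧ (double ^ 1) p = mulFun 2 p := by
  decide +kernel

theorem smul_neg_frame {g : Co0} {p q : GolayPt} (h : g • frame p = -frame q) :
    (negOne * g) • frame p = frame q := by
  rw [mul_smul, h, negOne_smul, neg_neg]

/-- The monomial case. -/
theorem mono_case {x : Co0} (hf : x • frame none = frame none ∨ x • frame none = -frame none) {k : ℕ}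
    (hk : k = 1 ∨ k = 10) (hx : x * bEl = bEl ^ k * x) :
    k = 1 ∧ ∃ (e j : ℕ), e < 2 ∧ (x : Q) = (sEl : Q) ^ e * (bEl : Q) ^ j := by
  obtain ⟨x', hxx, hf', hx'⟩ : ∃ x' : Co0, (x' : Q) = (x : Q) ∧ x' • frame none = frame none ∧
      x' * permHom bM = permHom (bM ^ k) * x' := by
    rw [map_pow]
    rcases hf with h | h
    · exact ⟨x, rfl, h, hx⟩
    · refine ⟨negOne * x, mk_neg x, smul_neg_frame h, ?_⟩
      rw [mul_assoc, ← bEl, hx, ← mul_assoc, ← negOne_comm, mul_assoc]
  obtain ⟨π, T, hT, hnT, hπ, hfr, -, hconj, hinv⟩ := mono_conj hf' hx'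
  have hb : ((bM : M24) : Equiv.Perm GolayPt) = double := rfl
  simp only [SubmonoidClass.coe_pow, hb] at hconj hinv
  rcases hk with rfl | rfl
  · refine ⟨rfl, ?_⟩
    obtain ⟨u, w, hok, hp⟩ := shape (π := π) (k := 2) (by simp) hπ fun p => by
      rw [← (double_pows _).2]; exact hconj p
    obtain ⟨j, -, hj⟩ := table_two u w hok
    have hcl : ∀ p, p ∈ T ↔ ![false, decide (some 0 ∈ T), decide (some 1 ∈ T), decide (some 5 ∈ T)] (cls p) = true := by
      intro p
      have hpow : ∀ (n : ℕ) (t : ZMod 23), some ((2 : ZMod 23) ^ n * t) ∈ T ↔ some t ∈ T := by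
        intro n t
        induction n with
        | zero => rw [pow_zero, one_mul]
        | succ n ih =>
          rw [← ih, pow_succ', mul_assoc]
          have h := hinv (some ((2 : ZMod 23) ^ n * t))
          rw [pow_one] at h
          exact h
      cases p with
      | none => simp [cls, hnT]
      | some t =>
        by_cases ht : t = 0
        · subst ht; simp [cls]
        rcases orbit_rep t ht with ⟨hc, e⟩ | ⟨hc, e⟩
        · rw [hc]
          simp only [Matrix.cons_val, decide_eq_true_eq]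
          conv_lhs => rw [e, ← mul_one ((2 : ZMod 23) ^ lg t), hpow]
        · rw [hc]
          simp only [Matrix.cons_val, decide_eq_true_eq]
          conv_lhs => rw [e, hpow]
    have hTe : T = univ.filter fun p =>
        ![false, decide (some 0 ∈ T), decide (some 1 ∈ T), decide (some 5 ∈ T)] (cls p) := by
      ext p; simp [hcl p]
    have hT2 := sets_table _ _ _ (hTe ▸ mem_supports_iff.1 hT)
    rw [← hTe] at hT2
    have hπj : ∀ p, (π : Equiv.Perm GolayPt) p = (double ^ j) p := fun p => by rw [double_pow, hp, hj]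
    have hfr' : ∀ p, ((x' • frame p : leechLattice) : Vec) =
        Pi.single ((double ^ j) p) (if (double ^ j) p ∈ T then -8 else 8) := fun p => by
      rw [hfr, hπj]
    have hbj : bEl ^ j = permHom (bM ^ j) := (map_pow permHom bM j).symm
    rcases hT2 with rfl | rfl
    · refine ⟨0, j, by norm_num, ?_⟩
      rw [← hxx, pow_zero, one_mul, ← QuotientGroup.mk_pow]
      refine congrArg _ (eq_of_frames fun p => Subtype.ext ?_)
      rw [hfr' p, hbj, permHom_frame, frame_coe, SubmonoidClass.coe_pow, hb]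
      simp
    · refine ⟨1, j, by norm_num, ?_⟩
      rw [← hxx, pow_one, ← QuotientGroup.mk_pow, ← QuotientGroup.mk_mul]
      refine congrArg _ (eq_of_frames fun p => Subtype.ext (funext fun q => ?_))
      rw [hfr' p, mul_smul, hbj, permHom_frame, sEl, sign_smul, frame_coe, SubmonoidClass.coe_pow, hb]
      by_cases hq : q = (double ^ j) p
      · subst hq
        by_cases hm : (double ^ j) p ∈ S0 <;> simp [Cfsg.Agent.LeechAut.Basic.flip, hm]
      · simp [Cfsg.Agent.LeechAut.Basic.flip, hq]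
  · exfalso
    obtain ⟨u, w, hok, -⟩ := shape (π := π) (k := 12) (by simp) hπ fun p => by
      rw [← (double_pows _).1]; exact hconj p
    rw [table_inv] at hok
    exact Bool.false_ne_true hok

/-- The six representatives. -/
def rep : ℕ → Co0
  | 0 => 1
  | 1 => zEl
  | 2 => zEl * zEl
  | 3 => cEl
  | 4 => zEl * cEl
  | _ => zEl * zEl * cEl

/-- The images of the extra frame vector. -/
def repL : ℕ → List ℤ
  | 0 => frameL 23
  | 1 => zL (frameL 23)
  | 2 => zL (zL (frameL 23))
  | 3 => cL (frameL 23)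
  | 4 => zL (cL (frameL 23))
  | _ => zL (zL (cL (frameL 23)))

theorem lst_rep : ∀ i, lst ((rep i • frame none : leechLattice) : Vec) = repL i := by
  have h0 : lst ((frame none : leechLattice) : Vec) = frameL 23 := lst_frame none
  intro i
  match i with
  | 0 => simp only [rep, one_smul, h0]; rfl
  | 1 => rw [rep, lst_zEl, h0]; rfl
  | 2 => rw [rep, mul_smul, lst_zEl, lst_zEl, h0]; rfl
  | 3 => rw [rep, lst_cEl, h0]; rfl
  | 4 => rw [rep, mul_smul, lst_zEl, lst_cEl, h0]; rfl
  | n + 5 =>
    show lst (((zEl * zEl * cEl) • frame none : leechLattice) : Vec) = zL (zL (cL (frameL 23)))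
    rw [mul_smul, mul_smul, lst_zEl, lst_zEl, lst_cEl, h0]

theorem cand_table : ((List.range 17).all fun a => (List.range 17).all fun b =>
    (List.range 5).all fun q => (List.range 5).all fun n =>
      !(decide (((a : ℤ) - 8) ^ 2 + ((b : ℤ) - 8) ^ 2 + 11 * ((q : ℤ) - 2) ^ 2 + 11 * ((n : ℤ) - 2) ^ 2 = 64) &&
        inLat (fv ((a : ℤ) - 8) ((b : ℤ) - 8) ((q : ℤ) - 2) ((n : ℤ) - 2))) ||
      (List.range 6).any fun i =>
        lst (fv ((a : ℤ) - 8) ((b : ℤ) - 8) ((q : ℤ) - 2) ((n : ℤ) - 2)) == repL i ||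
        lst (fv ((a : ℤ) - 8) ((b : ℤ) - 8) ((q : ℤ) - 2) ((n : ℤ) - 2)) == (repL i).map Neg.neg) = true := by
  decide +kernel

theorem fixed_vectors {y : leechLattice} (hy : bEl • y = y) (hn : sqNorm (y : Vec) = 64) :
    ∃ i < 6, y = rep i • frame none ∨ y = -(rep i • frame none) := by
  have hinv : ∀ p, (y : Vec) (mulFun 2 p) = (y : Vec) p := fun p => by
    conv_lhs => rw [← hy]
    rw [bEl, permHom_smul]
    show (y : Vec) (double⁻¹ (double p)) = _
    simp
  have he := eq_fv hinv
  set a := (y : Vec) none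
  set b := (y : Vec) (some 0)
  set q := (y : Vec) (some 1)
  set n := (y : Vec) (some 5)
  rw [he] at hn
  have hn' : a ^ 2 + b ^ 2 + 11 * q ^ 2 + 11 * n ^ 2 = 64 := by
    have h := (sum_cls fun k => ![a, b, q, n] k ^ 2).symm.trans hn
    simpa [Matrix.cons_val] using h
  have ha : -8 ≤ a ∧ a ≤ 8 := by constructor <;> nlinarith [sq_nonneg b, sq_nonneg q, sq_nonneg n]
  have hb : -8 ≤ b ∧ b ≤ 8 := by constructor <;> nlinarith [sq_nonneg a, sq_nonneg q, sq_nonneg n]
  have hq : -2 ≤ q ∧ q ≤ 2 := by constructor <;> nlinarith [sq_nonneg a, sq_nonneg b, sq_nonneg n]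
  have hn2 : -2 ≤ n ∧ n ≤ 2 := by constructor <;> nlinarith [sq_nonneg a, sq_nonneg b, sq_nonneg q]
  have h := cand_table
  simp only [List.all_eq_true, List.mem_range] at h
  have h' := h (a + 8).toNat (by omega) (b + 8).toNat (by omega) (q + 2).toNat (by omega) (n + 2).toNat (by omega)
  rw [Int.toNat_of_nonneg (by omega), Int.toNat_of_nonneg (by omega), Int.toNat_of_nonneg (by omega),
    Int.toNat_of_nonneg (by omega)] at h'
  simp only [add_sub_cancel_right] at h'
  have hl : inLat (fv a b q n) = true := inLat_of_mem (he ▸ y.2)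
  simp only [hn', hl, decide_true, Bool.and_self, Bool.not_true, Bool.false_or, List.any_eq_true,
    List.mem_range, Bool.or_eq_true, beq_iff_eq] at h'
  obtain ⟨i, hi, hor⟩ := h'
  refine ⟨i, hi, hor.imp (fun e => ?_) fun e => ?_⟩
  · refine Subtype.ext (lst_injective ?_)
    rw [lst_rep, ← e, he]
  · refine Subtype.ext (lst_injective ?_)
    rw [← negOne_smul, he, e, ← lst_rep, lst, List.map_map]
    refine List.map_congr_left fun j _ => ?_
    rw [negOne_smul]
    rfl

theorem zb : zEl * bEl = bEl * zEl := by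
  have h := word_eq (w := [4, 2]) (w' := [2, 4]) (by decide +kernel)
  simpa [wordEl, gl] using h

theorem zz : zEl ^ 3 = 1 := by
  have h := word_eq (w := [4, 4, 4]) (w' := []) (by decide +kernel)
  simpa [wordEl, gl, pow_succ, mul_assoc] using h

theorem sz : sEl * zEl * sEl = zEl⁻¹ := by
  refine eq_of_frames fun p => Subtype.ext (lst_injective ?_)
  have hl : ∀ v : leechLattice, lst ((sEl • v : leechLattice) : Vec) =
      (List.range 24).map fun i => if pt i ∈ S0 then -(lst (v : Vec)).getD i 0 else (lst (v : Vec)).getD i 0 := by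
    intro v
    refine List.map_congr_left fun i hi => ?_
    rw [sEl, sign_smul, Cfsg.Agent.LeechAut.Basic.flip]
    conv_rhs => rw [← ix_pt (List.mem_range.1 hi), getD_lst, pt_ix]
  rw [mul_smul, mul_smul, hl, lst_zEl, hl, lst_zEl_inv, lst_frame]
  revert p
  decide +kernel

theorem cb : cEl * bEl * cEl⁻¹ = bEl⁻¹ := congrArg Subtype.val Cfsg.Agent.Co2Out.Local.rel_CB

theorem b11 : bEl ^ 11 = 1 := by
  have h : gB ^ 11 = 1 := by rw [← Cfsg.Agent.Co2Out.Local.order_B, pow_orderOf_eq_one]
  exact congrArg Subtype.val h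

/-- The centraliser of the doubling. -/
theorem centralizer_B {x : Co0} (hx : x * bEl = bEl * x) :
    ∃ (i e j : ℕ), i < 3 ∧ e < 2 ∧ (x : Q) = (zEl : Q) ^ i * (sEl : Q) ^ e * (bEl : Q) ^ j := by
  have hbf : bEl • frame none = frame none := permHom_frame bM none
  obtain ⟨n, hn, hy⟩ := fixed_vectors (y := x • frame none) (by rw [← mul_smul, ← hx, mul_smul, hbf])
    ((sqNorm_smul _ _).trans (sqNorm_frame none))
  have hf : ((rep n)⁻¹ * x) • frame none = frame none ∨ ((rep n)⁻¹ * x) • frame none = -frame none := by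
    rw [mul_smul]
    refine hy.imp (fun e => by rw [e, inv_smul_smul]) fun e => ?_
    rw [e, smul_neg', inv_smul_smul]
  have hz : Commute zEl bEl := zb
  have hcase : (∃ i < 3, rep n = zEl ^ i) ∨ (rep n)⁻¹ * x * bEl = bEl ^ 10 * ((rep n)⁻¹ * x) := by
    have hinv : ∀ r : Co0, r * bEl * r⁻¹ = bEl⁻¹ → r⁻¹ * x * bEl = bEl ^ 10 * (r⁻¹ * x) := by
      intro r hr
      have h10 : bEl⁻¹ = bEl ^ 10 := inv_eq_of_mul_eq_one_right (by rw [← pow_succ', b11])
      have hr' : r * bEl⁻¹ * r⁻¹ = bEl := by rw [← conj_inv, hr, inv_inv]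
      rw [mul_assoc r⁻¹ x, hx, ← mul_assoc, ← h10]
      conv_lhs => rw [← hr']
      group
    have hzc : zEl * (cEl * bEl * cEl⁻¹) * zEl⁻¹ = bEl⁻¹ := by
      rw [cb, hz.inv_right.eq, mul_inv_cancel_right]
    interval_cases n
    · exact Or.inl ⟨0, by norm_num, rfl⟩
    · exact Or.inl ⟨1, by norm_num, (pow_one _).symm⟩
    · exact Or.inl ⟨2, by norm_num, (pow_two _).symm⟩
    · exact Or.inr (hinv _ cb)
    · refine Or.inr (hinv _ ?_)
      rw [rep, ← hzc]; group
    · refine Or.inr (hinv _ ?_)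
      show zEl * zEl * cEl * bEl * (zEl * zEl * cEl)⁻¹ = _
      calc _ = zEl * (zEl * (cEl * bEl * cEl⁻¹) * zEl⁻¹) * zEl⁻¹ := by group
        _ = zEl * bEl⁻¹ * zEl⁻¹ := by rw [hzc]
        _ = bEl⁻¹ := by rw [hz.inv_right.eq, mul_inv_cancel_right]
  rcases hcase with ⟨i, hi, hr⟩ | h10
  · rw [hr] at hf
    have hc : (zEl ^ i)⁻¹ * x * bEl = bEl ^ 1 * ((zEl ^ i)⁻¹ * x) := by
      rw [pow_one, mul_assoc, hx, ← mul_assoc, ((hz.pow_left i).inv_left).eq, mul_assoc]
    obtain ⟨-, e, j, he, h⟩ := mono_case hf (Or.inl rfl) hc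
    refine ⟨i, e, j, hi, he, ?_⟩
    rw [QuotientGroup.mk_mul, QuotientGroup.mk_inv, inv_mul_eq_iff_eq_mul, QuotientGroup.mk_pow] at h
    rw [h, mul_assoc]
  · exact absurd (mono_case hf (Or.inr rfl) h10).1 (by norm_num)

theorem b_ne : (bEl : Q) ≠ 1 := by
  intro h
  rw [← QuotientGroup.mk_one, mk_eq, mul_one] at h
  have e : bEl • frame (some 1) = frame (some 2) := permHom_frame bM (some 1)
  rcases h with h | h <;> rw [h] at e
  · rw [one_smul] at e
    have := congrArg (fun v : leechLattice => (v : Vec) (some 1)) e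
    simp [frame_coe, Pi.single_apply] at this
    exact absurd this (by decide)
  · rw [negOne_smul] at e
    have := congrArg (fun v : leechLattice => (v : Vec) (some 1)) e
    simp [frame_coe, Pi.single_apply] at this
    split_ifs at this

theorem order_b : orderOf (bEl : Q) = 11 := by
  haveI : Fact (Nat.Prime 11) := ⟨by norm_num⟩
  exact orderOf_eq_prime (by rw [← QuotientGroup.mk_pow, b11, QuotientGroup.mk_one]) b_ne

theorem order_a : orderOf (g23 : Q) = 23 := by
  haveI : Fact (Nat.Prime 23) := ⟨by norm_num⟩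
  refine orderOf_eq_prime ?_ fun h => ?_
  · rw [← QuotientGroup.mk_pow, ← orderOf_g23, pow_orderOf_eq_one, QuotientGroup.mk_one]
  rw [← QuotientGroup.mk_one, mk_eq, mul_one] at h
  have h1 := orderOf_g23
  rcases h with h | h <;> rw [h] at h1
  · rw [orderOf_one] at h1; norm_num at h1
  · have h2 : orderOf negOne ∣ 2 := orderOf_dvd_of_pow_eq_one (by rw [pow_two, neg_sq])
    rw [h1] at h2; norm_num at h2

/-- An element of order three commuting with the doubling. -/
theorem order_three {w : Q} (hw : w * (bEl : Q) = (bEl : Q) * w) (h3 : w ^ 3 = 1) (h1 : w ≠ 1) :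
    w = (zEl : Q) ∨ w = (zEl : Q) ^ 2 := by
  obtain ⟨x, rfl⟩ := QuotientGroup.mk_surjective w
  have hx : x * bEl = bEl * x := by
    rw [← QuotientGroup.mk_mul, ← QuotientGroup.mk_mul, mk_eq] at hw
    refine hw.resolve_right fun h => ?_
    have e : x * bEl * x⁻¹ = negOne * bEl := by rw [h, mul_assoc, mul_inv_cancel_right]
    have e11 := congrArg (fun g : Co0 => g ^ 11) e
    rw [conj_pow, b11, mul_one, mul_inv_cancel,
      (show Commute negOne bEl from (negOne_comm bEl).symm).mul_pow, b11, mul_one] at e11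
    rw [pow_succ, show negOne ^ 10 = 1 by rw [show (10 : ℕ) = 2 * 5 by norm_num, pow_mul, pow_two, neg_sq,
      one_pow], one_mul] at e11
    exact negOne_ne_one e11.symm
  obtain ⟨i, e, j, hi, he, hxe⟩ := centralizer_B hx
  set Z := (zEl : Q)
  set S := (sEl : Q)
  set B := (bEl : Q)
  have hZB : Commute Z B := by
    show _ * _ = _ * _
    rw [← QuotientGroup.mk_mul, zb, QuotientGroup.mk_mul]
  have hZ3 : Z ^ 3 = 1 := by rw [← QuotientGroup.mk_pow, zz, QuotientGroup.mk_one]
  have hSZ : S * Z * S = Z⁻¹ := by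
    rw [← QuotientGroup.mk_mul, ← QuotientGroup.mk_mul, sz, QuotientGroup.mk_inv]
  have hS2 : S * S = 1 := by
    rw [← QuotientGroup.mk_mul, sEl, Cfsg.Agent.LeechAut.Co1.sign_mul]
    refine (congrArg _ ?_).trans (QuotientGroup.mk_one _)
    exact eq_one_of_frames fun p => Subtype.ext (by rw [sign_smul]; funext q; simp [Cfsg.Agent.LeechAut.Basic.flip])
  have hSB : Commute S B := by
    show _ * _ = _ * _
    rw [← QuotientGroup.mk_mul, ← QuotientGroup.mk_mul]
    congr 1
    rw [sEl, bEl]
    have h := conj_sign bM S0 S0_code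
    rw [sign_congr (show ((bM : M24) : Equiv.Perm GolayPt) • S0 = S0 by decide +kernel) _ S0_code,
      mul_inv_eq_iff_eq_mul] at h
    exact h.symm
  interval_cases e
  · rw [pow_zero, mul_one] at hxe
    have hb3 : B ^ (3 * j) = 1 := by
      rw [hxe, (hZB.pow_pow i j).mul_pow, ← pow_mul, mul_comm i, pow_mul, hZ3, one_pow, one_mul,
        ← pow_mul, mul_comm] at h3
      exact h3
    rw [← orderOf_dvd_iff_pow_eq_one, order_b] at hb3
    have hj : B ^ j = 1 := by
      rw [← orderOf_dvd_iff_pow_eq_one, order_b]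
      exact (Nat.Coprime.dvd_of_dvd_mul_left (by norm_num) hb3)
    rw [hj, mul_one] at hxe
    interval_cases i
    · exact absurd (by rw [hxe, pow_zero]) h1
    · exact Or.inl (by rw [hxe, pow_one])
    · exact Or.inr hxe
  · exfalso
    rw [pow_one] at hxe
    have h3' := h3
    have hsq : (Z ^ i * S) * (Z ^ i * S) = 1 := by
      have h := conj_pow (a := S) (b := Z) (i := i)
      have hSinv : S⁻¹ = S := inv_eq_of_mul_eq_one_right hS2
      rw [hSinv, hSZ, inv_pow] at h
      rw [mul_assoc, ← mul_assoc S (Z ^ i) S, ← h, mul_inv_cancel]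
    have hc : Commute (Z ^ i * S) (B ^ j) := ((hZB.pow_left i).mul_left hSB).pow_right j
    have h6 : B ^ (6 * j) = 1 := by
      have hu2 : (Z ^ i * S) ^ (3 * 2) = 1 := by rw [mul_comm, pow_mul, pow_two, hsq, one_pow]
      rw [show (3 : ℕ) * 2 = 6 by norm_num] at hu2
      have h' : ((Z ^ i * S) * B ^ j) ^ 6 = 1 := by
        rw [show (6 : ℕ) = 3 * 2 by norm_num, pow_mul, ← hxe, h3', one_pow]
      rwa [hc.mul_pow, hu2, one_mul, ← pow_mul, mul_comm] at h'
    rw [← orderOf_dvd_iff_pow_eq_one, order_b] at h6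
    have hj : B ^ j = 1 := by
      rw [← orderOf_dvd_iff_pow_eq_one, order_b]
      exact (Nat.Coprime.dvd_of_dvd_mul_left (by norm_num) h6)
    rw [hj, mul_one] at hxe
    apply h1
    rw [hxe, pow_succ, pow_two, hsq, one_mul] at h3
    rw [hxe, h3]

end Cfsg.Agent.Co1Out.Local
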