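import Cfsg.Agent.Lib.Co1Out.Generate
import Cfsg.Agent.Lib.Co1Out.Chains
import Cfsg.Prelude.Def_KGroupFacts

/-!
Every automorphism of the largest Conway group is inner.
-/

set_option autoImplicit false
set_option maxRecDepth 20000

namespace Cfsg.Agent.Co1Out.Main

open Cfsg Cfsg.Agent.LeechAut.Conway23 Cfsg.Agent.LeechAut.Basic Cfsg.Agent.LeechAut.Cross
  Cfsg.Agent.Co1Out.Elements Cfsg.Agent.Co1Out.Local Cfsg.Agent.Co1Out.Chains

/-- The translation. -/
abbrev A : Q := (g23 : Q)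

/-- The doubling. -/
abbrev B : Q := (bEl : Q)

/-- The element of order three. -/
abbrev Z : Q := (zEl : Q)

theorem mk_step (rs : List ℕ) : (stepEl rs : Q) = (rs.map fun r => A ^ r * Z).prod := by
  induction rs with
  | nil => simp [stepEl]
  | cons r rs ih =>
    rw [show stepEl (r :: rs) = g23 ^ r * zEl * stepEl rs from List.prod_cons, List.map_cons,
      List.prod_cons, ← ih, QuotientGroup.mk_mul, QuotientGroup.mk_mul, QuotientGroup.mk_pow]

theorem rel_BA : B * A * B⁻¹ = A ^ 2 := by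
  have h := congrArg Subtype.val Cfsg.Agent.Co2Out.Local.rel_BA
  rw [← QuotientGroup.mk_mul, ← QuotientGroup.mk_inv, ← QuotientGroup.mk_mul, ← QuotientGroup.mk_pow]
  exact congrArg _ h

theorem Z_three : Z ^ 3 = 1 := by rw [← QuotientGroup.mk_pow, zz, QuotientGroup.mk_one]

theorem ZB : Commute Z B := by
  show _ * _ = _ * _
  rw [← QuotientGroup.mk_mul, zb, QuotientGroup.mk_mul]

theorem Z_ne : Z ≠ 1 := by
  intro h
  rw [← QuotientGroup.mk_one, mk_eq, mul_one] at h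
  refine Generate.z_notMem ?_
  rcases h with h | h <;> rw [h]
  · exact one_mem _
  · exact Cfsg.Agent.LeechAut.Maximal.sign_mem_crossStab _ _

theorem B_zpow_A (z : ℤ) : B * A ^ z = A ^ (2 * z) * B := by
  have h : B * A ^ z * B⁻¹ = A ^ (2 * z) := by
    rw [← conj_zpow, rel_BA, ← zpow_natCast, ← zpow_mul]
    rfl
  exact mul_inv_eq_iff_eq_mul.1 h

theorem B_pow_A (j : ℕ) (z : ℤ) : B ^ j * A ^ z = A ^ ((2 : ℤ) ^ j * z) * B ^ j := by
  induction j with
  | zero => simp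
  | succ n ih => rw [pow_succ', mul_assoc, ih, ← mul_assoc, B_zpow_A, mul_assoc, ← pow_succ', ← mul_assoc,
      ← pow_succ']

theorem twist : ∀ m : ZMod 23, m ≠ 0 →
    ∃ j < 11, (2 : ZMod 23) ^ j * m = 1 ∨ (2 : ZMod 23) ^ j * m = 22 := by decide +kernel

theorem two_pow_one : ∀ j : Fin 11, (2 : ZMod 23) ^ j.1 = 2 → j.1 = 1 := by decide +kernel

theorem normalizer_Q {w : Q} (hw : w * A * w⁻¹ ∈ Subgroup.zpowers A) :
    ∃ (i : Fin 23) (j : Fin 11), w = A ^ (i : ℕ) * B ^ (j : ℕ) := by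
  haveI := finite_Q
  obtain ⟨c, rfl⟩ := QuotientGroup.mk_surjective w
  obtain ⟨k, hk⟩ := mem_powers_iff_mem_zpowers.2 hw
  have hk' : ((c * g23 * c⁻¹ : Co0) : Q) = ((g23 ^ k : Co0) : Q) := by
    rw [QuotientGroup.mk_mul, QuotientGroup.mk_mul, QuotientGroup.mk_inv, QuotientGroup.mk_pow]
    exact hk.symm
  have hce : c * g23 * c⁻¹ = g23 ^ k := by
    refine (mk_eq.1 hk').resolve_right fun h => ?_
    have h23 : g23 ^ 23 = 1 := by rw [← orderOf_g23, pow_orderOf_eq_one]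
    have e : (c * g23 * c⁻¹) ^ 23 = (negOne * g23 ^ k) ^ 23 := by rw [h]
    rw [conj_pow, h23, mul_one, mul_inv_cancel,
      (show Commute negOne (g23 ^ k) from (negOne_comm _).symm).mul_pow, ← pow_mul, mul_comm k, pow_mul,
      h23, one_pow, mul_one, show (23 : ℕ) = 2 * 11 + 1 by norm_num, pow_succ, pow_mul, pow_two, neg_sq,
      one_pow, one_mul] at e
    exact negOne_ne_one e.symm
  obtain ⟨i, j, h⟩ := normalizer_A hce
  refine ⟨i, j, ?_⟩
  rw [← QuotientGroup.mk_pow, ← QuotientGroup.mk_pow, ← QuotientGroup.mk_mul]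
  exact mk_eq.2 h

theorem exists_pow_of_mem {G : Type} [Group G] [Finite G] {x y : G} (h : y ∈ Subgroup.zpowers x) :
    ∃ n : ℕ, x ^ n = y := by
  obtain ⟨n, hn⟩ := mem_powers_iff_mem_zpowers.2 h
  exact ⟨n, hn⟩

/-- An automorphism, moved to one fixing the doubling, with few choices on the other two. -/
theorem normalise (α : MulAut Q) : ∃ g : Q, ∃ m x : ℕ, (m = 1 ∨ m = 22) ∧ (x = 1 ∨ x = 2) ∧
    (MulAut.conj g * α) A = A ^ m ∧ (MulAut.conj g * α) B = B ∧ (MulAut.conj g * α) Z = Z ^ x := by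
  classical
  haveI := finite_Q
  have h23 : ¬ 23 ^ 2 ∣ Nat.card Q := by rw [card_Q]; norm_num
  obtain ⟨h, i, hi⟩ := Cfsg.Agent.LeechAut.Crit23.exists_conj order_a h23 (x := α A)
    (by rw [MulEquiv.orderOf_eq, order_a])
  set β : MulAut Q := MulAut.conj h * α with hβ
  have hle : Subgroup.zpowers A ≤ Subgroup.zpowers (β A) := by
    rw [Subgroup.zpowers_le]
    refine Subgroup.mem_zpowers_iff.2 ⟨i, ?_⟩
    show (h * α A * h⁻¹) ^ i = A
    rw [conj_zpow, hi]
  have hβA : β A ∈ Subgroup.zpowers A := by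
    rw [Subgroup.eq_of_le_of_card_ge hle (by
      rw [Nat.card_zpowers, Nat.card_zpowers, MulEquiv.orderOf_eq])]
    exact Subgroup.mem_zpowers _
  obtain ⟨k, hk⟩ := Subgroup.mem_zpowers_iff.1 hβA
  have hrel : β B * A ^ k * (β B)⁻¹ = A ^ (2 * k) := by
    rw [hk, ← map_inv, ← map_mul, ← map_mul, rel_BA, map_pow, ← hk, ← zpow_natCast, ← zpow_mul, mul_comm]
    rfl
  have hnorm : β B * A * (β B)⁻¹ ∈ Subgroup.zpowers A := by
    obtain ⟨l, hl⟩ := Subgroup.mem_zpowers_iff.1 (hle (Subgroup.mem_zpowers A))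
    rw [← hk, ← zpow_mul] at hl
    have h2 : (β B * A ^ k * (β B)⁻¹) ^ l = β B * A * (β B)⁻¹ := by
      rw [conj_zpow, ← zpow_mul, hl]
    rw [← h2, hrel]
    exact Subgroup.zpow_mem _ (Subgroup.zpow_mem _ (Subgroup.mem_zpowers A) _) _
  have hk0 : ((k : ℤ) : ZMod 23) ≠ 0 := by
    intro h0
    rw [ZMod.intCast_zmod_eq_zero_iff_dvd] at h0
    obtain ⟨c, rfl⟩ := h0
    have h1 : A ^ (((23 : ℕ) : ℤ) * c) = 1 := by
      rw [zpow_mul, zpow_natCast, ← order_a, pow_orderOf_eq_one, one_zpow]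
    rw [h1] at hk
    have h' := order_a
    rw [← MulEquiv.orderOf_eq β, ← hk, orderOf_one] at h'
    norm_num at h'
  obtain ⟨a, b, hab⟩ := normalizer_Q hnorm
  have hb : (b : ℕ) = 1 := by
    apply two_pow_one b
    have e : A ^ ((2 : ℤ) ^ (b : ℕ) * k) = A ^ (2 * k) := by
      rw [← hrel, hab, mul_inv_rev, mul_assoc (A ^ (a : ℕ)), B_pow_A, ← mul_assoc (A ^ (a : ℕ)),
        ← zpow_natCast A (a : ℕ), ← zpow_add, add_comm, zpow_add]
      group
    rw [zpow_eq_zpow_iff_modEq, order_a, ← ZMod.intCast_eq_intCast_iff] at e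
    push_cast at e
    haveI : Fact (Nat.Prime 23) := ⟨by norm_num⟩
    exact mul_right_cancel₀ hk0 e
  rw [hb, pow_one] at hab
  set γ : MulAut Q := MulAut.conj (A ^ (a : ℕ)) * β with hγ
  have hγA : γ A = A ^ k := by
    show A ^ (a : ℕ) * β A * (A ^ (a : ℕ))⁻¹ = _
    rw [← hk, ← zpow_natCast, ← zpow_add, ← zpow_neg, ← zpow_add]
    congr 1
    ring
  have hγB : γ B = B := by
    show A ^ (a : ℕ) * β B * (A ^ (a : ℕ))⁻¹ = _
    rw [hab, ← zpow_natCast, ← zpow_neg, mul_assoc, mul_assoc, B_zpow_A, ← mul_assoc, ← mul_assoc,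
      ← zpow_add, ← zpow_add, show ((a : ℕ) : ℤ) + ((a : ℕ) : ℤ) + 2 * -((a : ℕ) : ℤ) = 0 by ring,
      zpow_zero, one_mul]
  obtain ⟨x, hx, hγZ⟩ : ∃ x : ℕ, (x = 1 ∨ x = 2) ∧ γ Z = Z ^ x := by
    have hc : γ Z * B = B * γ Z := by
      have e := congrArg γ ZB.eq
      rwa [map_mul, map_mul, hγB] at e
    rcases order_three hc (by rw [← map_pow, Z_three, map_one])
        (fun e => Z_ne (γ.injective (e.trans (map_one γ).symm))) with e | e
    · exact ⟨1, Or.inl rfl, e.trans (pow_one _).symm⟩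
    · exact ⟨2, Or.inr rfl, e⟩
  obtain ⟨j, -, hj⟩ := twist _ hk0
  refine ⟨B ^ j * (A ^ (a : ℕ) * h), ?_⟩
  rw [map_mul, map_mul, mul_assoc, mul_assoc, ← hβ, ← hγ]
  have hA' : (MulAut.conj (B ^ j) * γ) A = A ^ ((2 : ℤ) ^ j * k) := by
    show B ^ j * γ A * (B ^ j)⁻¹ = _
    rw [hγA, B_pow_A, mul_inv_cancel_right]
  obtain ⟨m, hm, hmk⟩ : ∃ m : ℕ, (m = 1 ∨ m = 22) ∧ ((2 : ZMod 23) ^ j * (k : ZMod 23)) = (m : ZMod 23) := by
    rcases hj with h | h
    · exact ⟨1, Or.inl rfl, by rw [h, Nat.cast_one]⟩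
    · exact ⟨22, Or.inr rfl, by rw [h]; rfl⟩
  refine ⟨m, x, hm, hx, ?_, ?_, ?_⟩
  · rw [hA', ← zpow_natCast, zpow_eq_zpow_iff_modEq, order_a, ← ZMod.intCast_eq_intCast_iff]
    push_cast
    exact hmk
  · show B ^ j * γ B * (B ^ j)⁻¹ = B
    rw [hγB, mul_inv_eq_iff_eq_mul]
    exact ((Commute.refl B).pow_left j).eq
  · show B ^ j * γ Z * (B ^ j)⁻¹ = Z ^ x
    rw [hγZ, mul_inv_eq_iff_eq_mul]
    exact ((ZB.pow_left x).pow_right j).eq.symm

theorem fix_all {δ : MulAut Q} {m x : ℕ} (hm : m = 1 ∨ m = 22) (hx : x = 1 ∨ x = 2)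
    (hA : δ A = A ^ m) (hZ : δ Z = Z ^ x) : δ A = A ∧ δ Z = Z := by
  rcases hm with rfl | rfl <;> rcases hx with rfl | rfl
  · exact ⟨hA.trans (pow_one _), hZ.trans (pow_one _)⟩
  · exfalso
    refine movA ?_
    have h := congrArg δ retA_one
    rw [map_pow, map_one, mk_step] at h
    rw [mk_step]
    rw [pow_two] at hZ
    simpa [map_mul, map_pow, hA, hZ, ← pow_mul, mul_assoc] using h
  · exfalso
    refine movB ?_
    have h := congrArg δ retA_one
    rw [map_pow, map_one, mk_step] at h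
    rw [mk_step]
    simpa [map_mul, map_pow, hA, hZ, pow_two, ← pow_mul, mul_assoc] using h
  · exfalso
    refine movC ?_
    have h := congrArg δ retB_one
    rw [map_pow, map_one, mk_step] at h
    rw [mk_step]
    rw [pow_two] at hZ
    simpa [map_mul, map_pow, hA, hZ, ← pow_mul, mul_assoc] using h

theorem conj_surjective : Function.Surjective (MulAut.conj : Q →* MulAut Q) := by
  intro α
  obtain ⟨g, m, x, hm, hx, hA, hB, hZ⟩ := normalise α
  obtain ⟨hA', hZ'⟩ := fix_all hm hx hA hZ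
  let F : Subgroup Q :=
    { carrier := {y | (MulAut.conj g * α) y = y}
      one_mem' := map_one _
      mul_mem' := fun {y y'} (hy : _ = _) (hy' : _ = _) => by
        show (MulAut.conj g * α) (y * y') = y * y'
        rw [map_mul, hy, hy']
      inv_mem' := fun {y} (hy : _ = _) => by
        show (MulAut.conj g * α) y⁻¹ = y⁻¹
        rw [map_inv, hy] }
  have hF := Generate.eq_top (F.comap (QuotientGroup.mk' (Subgroup.center Co0))) (by
      show (negOne : Q) ∈ F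
      rw [← mul_one negOne, mk_neg, QuotientGroup.mk_one]
      exact F.one_mem) hA' hB hZ'
  refine ⟨g⁻¹, ?_⟩
  have h1 : MulAut.conj g * α = 1 := MulEquiv.ext fun y => by
    obtain ⟨c, rfl⟩ := QuotientGroup.mk_surjective y
    exact (hF ▸ Subgroup.mem_top c : c ∈ F.comap (QuotientGroup.mk' (Subgroup.center Co0)))
  rw [map_inv]
  exact inv_eq_of_mul_eq_one_right h1

theorem card_out : Nat.card (Cfsg.Out Cfsg.Spor.Co1) = 1 := by
  haveI := finite_Q
  have htop : Cfsg.Inn Q = ⊤ := by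
    rw [eq_top_iff]
    intro α _
    obtain ⟨g, hg⟩ := conj_surjective α
    exact ⟨g, hg⟩
  have h := Subgroup.card_eq_card_quotient_mul_card_subgroup (Cfsg.Inn Q)
  rw [htop, Subgroup.card_top] at h
  show Nat.card (MulAut Q ⧸ Cfsg.Inn Q) = 1
  rw [htop]
  exact (Nat.mul_eq_right (Nat.card_pos (α := MulAut Q)).ne').1 h.symm

end Cfsg.Agent.Co1Out.Main
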